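import Cfsg.Agent.H658.AMGM

/-!
# Rational combinations of powers of roots of unity under the embeddings
-/

set_option autoImplicit false

open scoped ComplexConjugate

namespace Cfsg.Agent.H658

/-- An embedding acting as the `m`-th power map on the `q`-th roots of unity maps
`∑ c i * ω i ^ k` to `∑ c i * ω i ^ (k * m)`. -/
theorem sigma_sum {ι : Type*} [Fintype ι] {q : ℕ} (hq : q ≠ 0) (c : ι → ℚ) (ω : ι → ℂ)
    (hω : ∀ i, ω i ^ q = 1) (σ : algebraicClosure ℚ ℂ →+* ℂ) (m : ℕ)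
    (hσ : ∀ t : algebraicClosure ℚ ℂ, t ^ q = 1 → σ t = (t : ℂ) ^ m) (k : ℕ)
    (x : algebraicClosure ℚ ℂ) (hx : (x : ℂ) = ∑ i, (c i : ℂ) * ω i ^ k) :
    σ x = ∑ i, (c i : ℂ) * ω i ^ (k * m) := by
  have hmem : ∀ i, ω i ∈ algebraicClosure ℚ ℂ := by
    intro i
    refine mem_algebraicClosure_iff'.2 ?_
    refine IsIntegral.of_pow (Nat.pos_of_ne_zero hq) ?_
    rw [hω i]
    exact isIntegral_one
  have h1 : x = ∑ i, algebraMap ℚ (algebraicClosure ℚ ℂ) (c i) *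
      (⟨ω i, hmem i⟩ : algebraicClosure ℚ ℂ) ^ k := by
    apply Subtype.ext
    rw [hx]
    push_cast
    refine Finset.sum_congr rfl fun i _ => ?_
    rfl
  rw [h1, map_sum]
  refine Finset.sum_congr rfl fun i _ => ?_
  rw [map_mul, map_pow, hσ ⟨ω i, hmem i⟩ (Subtype.ext (by simpa using hω i))]
  have h2 : σ (algebraMap ℚ (algebraicClosure ℚ ℂ) (c i)) = (c i : ℂ) := by
    have h3 : σ.comp (algebraMap ℚ (algebraicClosure ℚ ℂ)) = algebraMap ℚ ℂ :=
      Subsingleton.elim _ _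
    exact congrArg (fun g : ℚ →+* ℂ => g (c i)) h3
  rw [h2, ← pow_mul, mul_comm m k]

/-- The squared norm of `∑ c i * ω i ^ k` is again such a combination. -/
theorem normSq_sum {ι : Type*} [Fintype ι] (c : ι → ℚ) (ω : ι → ℂ) (k : ℕ) :
    ((‖∑ i, (c i : ℂ) * ω i ^ k‖ ^ 2 : ℝ) : ℂ) =
      ∑ i : ι × ι, ((c i.1 * c i.2 : ℚ) : ℂ) * (ω i.1 * conj (ω i.2)) ^ k := by
  rw [← Complex.normSq_eq_norm_sq, ← Complex.mul_conj, map_sum, Finset.sum_mul_sum,
    Fintype.sum_prod_type]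
  refine Finset.sum_congr rfl fun i _ => Finset.sum_congr rfl fun j _ => ?_
  rw [map_mul, map_pow, mul_pow]
  have h1 : conj (c j : ℂ) = (c j : ℂ) := map_ratCast (starRingEnd ℂ) (c j)
  rw [h1]
  push_cast
  ring

theorem pow_mul_conj_eq_one {q : ℕ} {a b : ℂ} (ha : a ^ q = 1) (hb : b ^ q = 1) :
    (a * conj b) ^ q = 1 := by
  rw [mul_pow, ha, ← map_pow, hb, map_one, one_mul]

end Cfsg.Agent.H658
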