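import Cfsg.Agent.H613.ContribVal
import Cfsg.Agent.H658.Cyclo

/-!
# The square of the number of characters of height zero

`card_height_zero_sq_le`: if `b` is a block of `C_G(y)` inducing `B`, `y` a `p`-element, then
`k_0(B) ^ 2 ≤ p ^ (2 d(b)) * l(b)`.

Tools: `sum_norm_contr_sq` (the sum of the squared norms of the contributions over `B × B` is `l(b)`),
`IntExp` and `pow_mul_contr_eq` (contributions as integral combinations of powers of roots of unity).
-/

set_option autoImplicit false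

open Cfsg
open scoped ComplexConjugate

namespace Cfsg.Agent.H658

open Cfsg.Agent.Blocks.Local Cfsg.Agent.Characters
open Cfsg.Agent.H613.RegGram Cfsg.Agent.H613.Contrib Cfsg.Agent.H613.ContribVal

variable {G : Type*} [Group G] [Finite G] {p : ℕ} [Fact p.Prime] {M : Ideal AlgInt}

/-- The sum of the squared norms of the contributions of one row. -/
theorem sum_norm_contr_sq_row (hM : IsPModular p M) {u : G} (hu : ∃ k : ℕ, orderOf u = p ^ k)
    {H : Subgroup G} [Fintype H] (hH : H = Subgroup.centralizer ({u} : Set G))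
    {b : Set (IrrCharacter H)} [Fintype b] {B : Set (IrrCharacter G)} [Fintype B]
    (hind : IsInducedBlock M H b B) (χ : IrrCharacter G) :
    ((∑ ψ : B, ‖contr p u b (χ : G → ℂ) (ψ : G → ℂ)‖ ^ 2 : ℝ) : ℂ) =
      contr p u b (χ : G → ℂ) (χ : G → ℂ) := by
  rw [← sum_contr_mul_contr hM hu hH hind (Core.isIrr_isClassFunction χ.2)]
  push_cast
  refine Finset.sum_congr rfl fun ψ _ => ?_
  rw [← conj_contr p u b (χ : G → ℂ) (ψ : G → ℂ), Complex.mul_conj, Complex.normSq_eq_norm_sq]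
  push_cast
  rfl

/-- The sum of the squared norms of the contributions is the rank of the block. -/
theorem sum_norm_contr_sq (hM : IsPModular p M) {u : G} (hu : ∃ k : ℕ, orderOf u = p ^ k)
    {H : Subgroup G} [Fintype H] (hH : H = Subgroup.centralizer ({u} : Set G))
    {b : Set (IrrCharacter H)} [Fintype b] {B : Set (IrrCharacter G)} [Fintype B]
    (hind : IsInducedBlock M H b B) :
    ∑ χ : B, ∑ ψ : B, ‖contr p u b (χ : G → ℂ) (ψ : G → ℂ)‖ ^ 2 = (blockRank p b : ℝ) := by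
  have h1 := sum_contr_self hM hu hH hind
  have h2 : ((∑ χ : B, ∑ ψ : B, ‖contr p u b (χ : G → ℂ) (ψ : G → ℂ)‖ ^ 2 : ℝ) : ℂ) =
      ((blockRank p b : ℝ) : ℂ) := by
    rw [Complex.ofReal_sum]
    calc ∑ χ : B, ((∑ ψ : B, ‖contr p u b (χ : G → ℂ) (ψ : G → ℂ)‖ ^ 2 : ℝ) : ℂ)
        = ∑ χ : B, contr p u b (χ : G → ℂ) (χ : G → ℂ) :=
          Finset.sum_congr rfl fun χ _ => sum_norm_contr_sq_row hM hu hH hind (χ : IrrCharacter G)
      _ = ((blockRank p b : ℝ) : ℂ) := by rw [h1]; push_cast; rfl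
  exact_mod_cast h2

/-- `p ^ d(b) * contr (u ^ k)` as an integral combination of `k`-th powers of roots of unity. -/
theorem pow_mul_contr_eq (hM : IsPModular p M) {u : G} {H : Subgroup G} [Fintype H]
    [Fintype (IrrCharacter H)] {q : ℕ} {n : IrrCharacter G → IrrCharacter H → ℕ}
    {e : IrrCharacter H → ℂ} (hE : Exp u H q n e) {b : Set (IrrCharacter H)} [Fintype b]
    (hb : IsPBlock M b) {z : IrrCharacter H → IrrCharacter H → ℤ}
    (hz : ∀ ξ ∈ b, ∀ η : IrrCharacter H,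
      (p : ℂ) ^ blockDefect p b * rg p (ξ : H → ℂ) (η : H → ℂ) = z ξ η)
    (χ ψ : IrrCharacter G) {k : ℕ} (hk : H = Subgroup.centralizer ({u ^ k} : Set G)) :
    (p : ℂ) ^ blockDefect p b * contr p (u ^ k) b (χ : G → ℂ) (ψ : G → ℂ) =
      ∑ i : b × b, (((n χ i.1 * n ψ i.2 * z i.1 i.2 : ℤ) : ℚ) : ℂ) *
        (e i.1 * conj (e i.2)) ^ k := by
  rw [contr_eq_sum hM hE hb χ ψ hk, Finset.mul_sum, Fintype.sum_prod_type]
  refine Finset.sum_congr rfl fun ξ _ => ?_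
  rw [Finset.mul_sum]
  refine Finset.sum_congr rfl fun η _ => ?_
  have h1 := hz ξ ξ.2 η
  push_cast
  rw [← h1]
  ring

theorem isIntegral_of_pow_eq_one {q : ℕ} (hq : q ≠ 0) {a : ℂ} (ha : a ^ q = 1) :
    IsIntegral ℤ a := by
  refine IsIntegral.of_pow (Nat.pos_of_ne_zero hq) ?_
  rw [ha]
  exact isIntegral_one

theorem isIntegral_conj {z : ℂ} (h : IsIntegral ℤ z) : IsIntegral ℤ (conj z) :=
  h.map (Complex.conjAe.toAlgHom.restrictScalars ℤ)

/-- `k_0(B) ^ 2 ≤ p ^ (2 d(b)) * l(b)` for a subsection `(y, b)` of `B`. -/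
theorem card_height_zero_sq_le (hM : IsPModular p M) {y : G} (hy : ∃ k : ℕ, orderOf y = p ^ k)
    {H : Subgroup G} (hH : H = Subgroup.centralizer ({y} : Set G))
    {b : Set (IrrCharacter H)} {B : Set (IrrCharacter G)}
    (hind : IsInducedBlock M H b B) :
    Nat.card {χ : IrrCharacter G // χ ∈ B ∧ blockHeight p B (χ : G → ℂ) = 0} ^ 2 ≤
      p ^ (2 * blockDefect p b) * blockRank p b := by
  classical
  have hpp : p.Prime := Fact.out
  have := Fintype.ofFinite G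
  have := Fintype.ofFinite H
  have := Core.finite_irr (G := H)
  have := Fintype.ofFinite (IrrCharacter H)
  have := Core.finite_irr (G := G)
  have := Fintype.ofFinite (IrrCharacter G)
  have : Fintype b := Fintype.ofFinite b
  have : Fintype B := Fintype.ofFinite B
  obtain ⟨j, hj⟩ := hy
  obtain ⟨q, hqdef⟩ : ∃ q : ℕ, q = p ^ j := ⟨_, rfl⟩
  have hq0 : q ≠ 0 := by rw [hqdef]; exact pow_ne_zero _ hpp.ne_zero
  have hyq : y ^ q = 1 := by rw [hqdef, ← hj]; exact pow_orderOf_eq_one y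
  obtain ⟨n, e, hE⟩ := exists_exp hH (q := q) hyq
  have hE' : Exp y H (p ^ j) n e := by rw [← hqdef]; exact hE
  have hcen : ∀ k : ℕ, k.Coprime q → H = Subgroup.centralizer ({y ^ k} : Set G) := by
    intro k hk
    rw [Cfsg.Agent.Blocks.GaloisConj.centralizer_pow_eq hyq hk]
    exact hH
  have hord : ∀ k : ℕ, ∃ i : ℕ, orderOf (y ^ k) = p ^ i := by
    intro k
    have h1 : orderOf (y ^ k) ∣ p ^ j := by rw [← hj]; exact orderOf_pow_dvd k
    obtain ⟨i, -, hi⟩ := (Nat.dvd_prime_pow hpp).1 h1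
    exact ⟨i, hi⟩
  -- integers
  have hex : ∀ ξ η : IrrCharacter H, ∃ z : ℤ, ξ ∈ b →
      (p : ℂ) ^ blockDefect p b * rg p (ξ : H → ℂ) (η : H → ℂ) = z := by
    intro ξ η
    by_cases hξ : ξ ∈ b
    · obtain ⟨k, hk⟩ := exists_int_rg hM hξ η
      exact ⟨k, fun _ => hk⟩
    · exact ⟨0, fun h => absurd h hξ⟩
  choose z hz' using hex
  have hz : ∀ ξ ∈ b, ∀ η : IrrCharacter H,
      (p : ℂ) ^ blockDefect p b * rg p (ξ : H → ℂ) (η : H → ℂ) = z ξ η :=
    fun ξ hξ η => hz' ξ η hξ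
  let S := {χ : IrrCharacter G // χ ∈ B ∧ blockHeight p B (χ : G → ℂ) = 0}
  have : Fintype S := Fintype.ofFinite S
  have : NeZero q := ⟨hq0⟩
  let cc : S → S → b × b → ℚ := fun χ ψ i =>
    ((n χ.1 i.1 * n ψ.1 i.2 * z i.1 i.2 : ℤ) : ℚ)
  let ω : b × b → ℂ := fun i => e i.1 * conj (e i.2)
  have hω : ∀ i, ω i ^ q = 1 := fun i => pow_mul_conj_eq_one (hE.root _) (hE.root _)
  let X : S → S → ℕ → ℂ := fun χ ψ k => ∑ i, (cc χ ψ i : ℂ) * ω i ^ k
  have hX : ∀ (χ ψ : S) (k : ℕ), k.Coprime q →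
      (p : ℂ) ^ blockDefect p b * contr p (y ^ k) b (χ.1 : G → ℂ) (ψ.1 : G → ℂ) = X χ ψ k :=
    fun χ ψ k hk => pow_mul_contr_eq hM hE hind.1 hz χ.1 ψ.1 (hcen k hk)
  let ι := S × S × (ZMod q)ˣ
  let a : ι → ℝ := fun i => ‖X i.1 i.2.1 ((i.2.2 : ZMod q).val)‖ ^ 2
  have hco : ∀ κ : (ZMod q)ˣ, ((κ : ZMod q).val).Coprime q := fun κ => ZMod.val_coe_unit_coprime κ
  have hXint : ∀ (χ ψ : S) (k : ℕ), IsIntegral ℤ (X χ ψ k) := by
    intro χ ψ k
    refine IsIntegral.sum _ fun i _ => IsIntegral.mul ?_ (IsIntegral.pow ?_ k)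
    · have h1 : ((cc χ ψ i : ℚ) : ℂ) = (((n χ.1 i.1 * n ψ.1 i.2 * z i.1 i.2 : ℤ)) : ℂ) := by
        simp only [cc]
        push_cast
        rfl
      rw [h1]
      exact isIntegral_algebraMap (R := ℤ)
        (x := (n χ.1 i.1 * n ψ.1 i.2 * z i.1 i.2 : ℤ))
    · exact isIntegral_of_pow_eq_one hq0 (hω i)
  have hmain := card_le_sum a (by
      rintro ⟨χ, ψ, κ⟩
      have h1 := not_memLocalIdeal_contr hM hE' hind χ.2.1 ψ.2.1 χ.2.2 ψ.2.2 (hcen _ (hco κ))
      rw [hX χ ψ _ (hco κ)] at h1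
      have hMp : M.IsPrime := hM.2.1.isPrime
      have h2 : X χ ψ ((κ : ZMod q).val) ≠ 0 := ne_zero_of_not_memLocalIdeal h1
      have h3 : 0 < ‖X χ ψ ((κ : ZMod q).val)‖ := norm_pos_iff.2 h2
      exact pow_pos h3 2) (by
      rintro ⟨χ, ψ, κ⟩
      have h1 : ((a (χ, ψ, κ) : ℝ) : ℂ) =
          X χ ψ ((κ : ZMod q).val) * conj (X χ ψ ((κ : ZMod q).val)) := by
        rw [Complex.mul_conj, Complex.normSq_eq_norm_sq]
      rw [h1]
      exact (hXint χ ψ _).mul (isIntegral_conj (hXint χ ψ _))) hq0 (by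
      intro σ m hm hσm
      let um : (ZMod q)ˣ := ZMod.unitOfCoprime m hm
      refine ⟨Equiv.prodCongr (Equiv.refl S) (Equiv.prodCongr (Equiv.refl S)
        (Equiv.mulRight um)), ?_⟩
      rintro ⟨χ, ψ, κ⟩ x hx
      have h1 : (x : ℂ) = ∑ i : (b × b) × (b × b), ((cc χ ψ i.1 * cc χ ψ i.2 : ℚ) : ℂ) *
          (ω i.1 * conj (ω i.2)) ^ ((κ : ZMod q).val) := by
        rw [hx, ← normSq_sum]
      have h2 := sigma_sum hq0 _ _ (fun i : (b × b) × (b × b) =>
        pow_mul_conj_eq_one (hω i.1) (hω i.2)) σ m hσm _ x h1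
      rw [h2, ← normSq_sum]
      have h3 : X χ ψ ((κ : ZMod q).val * m) = X χ ψ (((κ * um : (ZMod q)ˣ) : ZMod q).val) := by
        refine Finset.sum_congr rfl fun i _ => ?_
        congr 1
        have h4 : ((κ : ZMod q).val * m) % q = (((κ * um : (ZMod q)ˣ) : ZMod q).val) % q := by
          rw [Units.val_mul, ZMod.val_mul, Nat.mod_mod]
          have h5 : ((um : (ZMod q)ˣ) : ZMod q).val = m % q := by
            have h6 : ((um : (ZMod q)ˣ) : ZMod q) = (m : ZMod q) := ZMod.coe_unitOfCoprime m hm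
            rw [h6, ZMod.val_natCast]
          rw [h5, Nat.mul_mod_mod]
        rw [pow_eq_pow_mod _ (hω i), h4, ← pow_eq_pow_mod _ (hω i)]
      exact congrArg (fun w : ℂ => ((‖w‖ ^ 2 : ℝ) : ℂ)) h3)
  -- the sum
  have hsum : ∑ i : ι, a i ≤ (Fintype.card (ZMod q)ˣ : ℝ) *
      ((p : ℝ) ^ (2 * blockDefect p b) * blockRank p b) := by
    have h1 : ∑ i : ι, a i = ∑ κ : (ZMod q)ˣ, ∑ χ : S, ∑ ψ : S,
        ‖X χ ψ ((κ : ZMod q).val)‖ ^ 2 := by
      rw [Fintype.sum_prod_type]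
      simp_rw [Fintype.sum_prod_type]
      rw [Finset.sum_congr rfl fun χ _ => Finset.sum_comm, Finset.sum_comm]
    rw [h1]
    have h2 : ∀ κ : (ZMod q)ˣ, ∑ χ : S, ∑ ψ : S, ‖X χ ψ ((κ : ZMod q).val)‖ ^ 2 ≤
        (p : ℝ) ^ (2 * blockDefect p b) * blockRank p b := by
      intro κ
      rw [← sum_norm_contr_sq hM (hord _) (hcen _ (hco κ)) hind, Finset.mul_sum]
      have hinj : ∀ F : IrrCharacter G → ℝ, (∀ χ, 0 ≤ F χ) →
          ∑ χ : S, F χ.1 ≤ ∑ χ : B, F χ := by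
        intro F hF
        rw [← Finset.sum_subtype (Finset.univ.filter
            fun χ : IrrCharacter G => χ ∈ B ∧ blockHeight p B (χ : G → ℂ) = 0)
            (p := fun χ => χ ∈ B ∧ blockHeight p B (χ : G → ℂ) = 0) (by simp) F,
          ← Finset.sum_subtype (Finset.univ.filter fun χ : IrrCharacter G => χ ∈ B)
            (p := fun χ => χ ∈ B) (by simp) F]
        refine Finset.sum_le_sum_of_subset_of_nonneg ?_ fun χ _ _ => hF χ
        intro χ hχ
        simp only [Finset.mem_filter, Finset.mem_univ, true_and] at hχ ⊢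
        exact hχ.1
      have h3 : ∀ (χ ψ : S), ‖X χ ψ ((κ : ZMod q).val)‖ ^ 2 =
          (p : ℝ) ^ (2 * blockDefect p b) *
            ‖contr p (y ^ (κ : ZMod q).val) b (χ.1 : G → ℂ) (ψ.1 : G → ℂ)‖ ^ 2 := by
        intro χ ψ
        rw [← hX χ ψ _ (hco κ), norm_mul, norm_pow, Complex.norm_natCast, mul_pow, ← pow_mul,
          mul_comm (blockDefect p b) 2]
      calc ∑ χ : S, ∑ ψ : S, ‖X χ ψ ((κ : ZMod q).val)‖ ^ 2
          = ∑ χ : S, (p : ℝ) ^ (2 * blockDefect p b) * ∑ ψ : S,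
            ‖contr p (y ^ (κ : ZMod q).val) b (χ.1 : G → ℂ) (ψ.1 : G → ℂ)‖ ^ 2 := by
            refine Finset.sum_congr rfl fun χ _ => ?_
            rw [Finset.mul_sum]
            exact Finset.sum_congr rfl fun ψ _ => h3 χ ψ
        _ ≤ ∑ χ : S, (p : ℝ) ^ (2 * blockDefect p b) * ∑ ψ : B,
            ‖contr p (y ^ (κ : ZMod q).val) b (χ.1 : G → ℂ) (ψ : G → ℂ)‖ ^ 2 := by
            refine Finset.sum_le_sum fun χ _ => mul_le_mul_of_nonneg_left ?_ (by positivity)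
            exact hinj (fun ψ => ‖contr p (y ^ (κ : ZMod q).val) b (χ.1 : G → ℂ)
              (ψ : G → ℂ)‖ ^ 2) fun ψ => by positivity
        _ ≤ ∑ χ : B, (p : ℝ) ^ (2 * blockDefect p b) * ∑ ψ : B,
            ‖contr p (y ^ (κ : ZMod q).val) b (χ : G → ℂ) (ψ : G → ℂ)‖ ^ 2 :=
            hinj (fun χ => (p : ℝ) ^ (2 * blockDefect p b) * ∑ ψ : B,
              ‖contr p (y ^ (κ : ZMod q).val) b (χ : G → ℂ) (ψ : G → ℂ)‖ ^ 2)
              fun χ => by positivity
    refine (Finset.sum_le_sum fun κ _ => h2 κ).trans ?_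
    rw [Finset.sum_const, Finset.card_univ, nsmul_eq_mul]
  have hcard : (Fintype.card ι : ℝ) = (Fintype.card (ZMod q)ˣ : ℝ) * (Nat.card S : ℝ) ^ 2 := by
    rw [Fintype.card_prod, Fintype.card_prod, Nat.card_eq_fintype_card]
    push_cast
    ring
  rw [hcard] at hmain
  have hpos : (0 : ℝ) < Fintype.card (ZMod q)ˣ := by
    exact_mod_cast Fintype.card_pos
  have hfin := le_of_mul_le_mul_left (hmain.trans hsum) hpos
  exact_mod_cast hfin

end Cfsg.Agent.H658
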