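import Cfsg.Agent.S0973
import Cfsg.Agent.H649.ConjPair
import Cfsg.Agent.H651.NilPair

/-!
# Blocks with an abelian defect group `D`: the block of `C_G(D)` and its stabilizer
-/

set_option autoImplicit false
set_option linter.unusedSectionVars false

open Cfsg
open scoped ComplexConjugate

namespace Cfsg.Agent.H658

open Cfsg.Agent.Blocks.Local Cfsg.Agent.Characters

variable {G : Type*} [Group G] [Finite G] {p : ℕ} [Fact p.Prime] {M : Ideal AlgInt}

/-- A block of the centralizer of an abelian defect group inducing `B`. -/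
theorem exists_root_centralizer (hM : IsPModular p M) {D : Subgroup G}
    (hab : IsMulCommutative D) {B : Set (IrrCharacter G)} (hBD : IsDefectGroup p M B D)
    (hB : IsPBlock M B) : ∃ b : Set (IrrCharacter (Subgroup.centralizer (D : Set G))),
      IsInducedBlock M (Subgroup.centralizer (D : Set G)) b B := by
  obtain ⟨b, -, hb⟩ := (S0973.result p M hM B hB D hBD).1
  have h1 : D ⊔ Subgroup.centralizer (D : Set G) = Subgroup.centralizer (D : Set G) :=
    sup_eq_right.2 (Subgroup.le_centralizer_iff_isMulCommutative.2 hab)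
  have h2 : ∃ b : Set (IrrCharacter ↥(D ⊔ Subgroup.centralizer (D : Set G))),
      IsInducedBlock M (D ⊔ Subgroup.centralizer (D : Set G)) b B := ⟨b, hb⟩
  rw [h1] at h2
  exact h2

/-- The stabilizer of a block of `C_G(D)` in `N_G(D)`. -/
theorem exists_stabilizer (hM : IsPModular p M) (D : Subgroup G)
    {b : Set (IrrCharacter (Subgroup.centralizer (D : Set G)))} (hb : IsPBlock M b) :
    ∃ T : Subgroup G, ∀ g : G, g ∈ T ↔ (g ∈ Subgroup.normalizer (D : Set G) ∧
      ∀ θ ∈ b, ∀ θ' : Cfsg.IrrCharacter (Subgroup.centralizer (D : Set G)),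
        (∀ h h' : Subgroup.centralizer (D : Set G), (h' : G) = g * h * g⁻¹ →
          (θ' : Subgroup.centralizer (D : Set G) → ℂ) h' =
            (θ : Subgroup.centralizer (D : Set G) → ℂ) h) → θ' ∈ b) := by
  have := isPrime_of_isPModular hM
  refine ⟨H651.idxStab ⟨D, b⟩, fun g => ?_⟩
  rw [H651.mem_idxStab, H649.conjIdx_eq_iff hb]
  refine and_congr_right fun hg => ?_
  have hg' := H649.mem_normalizer_centralizer hg
  constructor
  · rintro ⟨-, h⟩ θ hθ θ' hθ'
    obtain ⟨χ', hχ', h1⟩ := h θ hθ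
    rw [H649.isConjCharOf_iff _ hg'] at h1
    have h2 : H649.irrMap (H649.conjAut _ g hg') θ = θ' := (H649.isConjCharOf_iff _ hg' θ θ').1 hθ'
    rw [← h2, h1]
    exact hχ'
  · intro h
    refine ⟨hg', fun χ hχ => ⟨H649.irrMap (H649.conjAut _ g hg') χ, ?_, ?_⟩⟩
    · exact h χ hχ _ ((H649.isConjCharOf_iff _ hg' χ _).2 rfl)
    · exact (H649.isConjCharOf_iff _ hg' χ _).2 rfl

end Cfsg.Agent.H658
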