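import Cfsg.Agent.H50.HerGoal

/-!
# Hering's theorem: fixed points and orbits in the thin configuration (helper658)
-/

set_option autoImplicit false

namespace Cfsg.Agent.H658.HerGen

open Cfsg.Agent.H50.Her

universe u v w

variable {p d b : ℕ} {L : Type u} {V : Type v} {S : Type w} [Group L] [AddCommGroup V] [Module (ZMod p) V]
    [Group S] {π : L →* S} {ρ : L →* (V ≃ₗ[ZMod p] V)}

/-- the fixed space of `g` -/
def Fx (ρ : L →* (V ≃ₗ[ZMod p] V)) (g : L) : Submodule (ZMod p) V where
  carrier := {v | ρ g v = v}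
  add_mem' := by
    intro a c ha hc
    simp only [Set.mem_ofPred_eq] at *
    rw [map_add, ha, hc]
  zero_mem' := by simp
  smul_mem' := by
    intro c x hx
    simp only [Set.mem_ofPred_eq] at *
    rw [map_smul, hx]

theorem mem_Fx {g : L} {v : V} : v ∈ Fx ρ g ↔ ρ g v = v := Iff.rfl

theorem Fx_eq_top (hinj : Function.Injective ρ) {g : L} (h : Fx ρ g = ⊤) : g = 1 := by
  apply hinj
  rw [map_one]
  ext v
  have : v ∈ Fx ρ g := by rw [h]; trivial
  exact this

section

variable [hp : Fact p.Prime] [Finite V]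

theorem card_sub (W : Submodule (ZMod p) V) : Nat.card W = p ^ Module.finrank (ZMod p) W := by
  have : Module.Finite (ZMod p) V := Module.Finite.of_finite
  rw [Module.natCard_eq_pow_finrank (K := ZMod p), Nat.card_zmod]

theorem finrank_eq {d : ℕ} (hV : Nat.card V = p ^ d) : Module.finrank (ZMod p) V = d := by
  have : Module.Finite (ZMod p) V := Module.Finite.of_finite
  have h1 : Nat.card V = p ^ Module.finrank (ZMod p) V := by
    rw [Module.natCard_eq_pow_finrank (K := ZMod p), Nat.card_zmod]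
  rw [h1] at hV
  exact Nat.pow_right_injective hp.out.two_le hV

theorem exists_pow {d : ℕ} (hV : Nat.card V = p ^ d) (W : Submodule (ZMod p) V) :
    ∃ k, k ≤ d ∧ Nat.card W = p ^ k ∧ (W ≠ ⊤ → k < d) := by
  have : Module.Finite (ZMod p) V := Module.Finite.of_finite
  refine ⟨Module.finrank (ZMod p) W, ?_, card_sub W, ?_⟩
  · rw [← finrank_eq hV]; exact Submodule.finrank_le W
  · intro hW
    rw [← finrank_eq hV]
    exact Submodule.finrank_lt hW

end

/-- counting modulo a prime -/
theorem modEq [Finite V] {r : ℕ} [hr : Fact r.Prime] {g : L} (hg : g ^ r = 1) (W : Submodule (ZMod p) V)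
    (hW : ∀ v ∈ W, ρ g v ∈ W) : Nat.card W ≡ Nat.card ↥(W ⊓ Fx ρ g) [MOD r] := by
  classical
  let f : Function.End W := fun v => ⟨ρ g v, hW v v.2⟩
  have hf' : ∀ n (v : W), (((f ^ n : Function.End W) v : W) : V) = ρ (g ^ n) v := by
    intro n
    induction n with
    | zero =>
      intro v
      rw [pow_zero, pow_zero, map_one]
      rfl
    | succ n ih =>
      intro v
      rw [pow_succ f n, pow_succ g n]
      change (((f ^ n : Function.End W) (f v) : W) : V) = _
      rw [ih, map_mul]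
      rfl
  have hf : f ^ r ^ 1 = 1 := by
    rw [pow_one]
    funext v
    apply Subtype.ext
    rw [hf', hg, map_one]
    rfl
  have : Fintype W := Fintype.ofFinite _
  have h1 := Equiv.Perm.card_fixedPoints_modEq hf
  rw [← Nat.card_eq_fintype_card, ← Nat.card_eq_fintype_card] at h1
  have h2 : Nat.card ↥(W ⊓ Fx ρ g) = Nat.card (Function.fixedPoints f) := by
    refine Nat.card_congr ⟨fun v => ⟨⟨v, v.2.1⟩, ?_⟩, fun v => ⟨v.1.1, v.1.2, ?_⟩, ?_, ?_⟩
    · exact Subtype.ext v.2.2
    · exact congrArg Subtype.val v.2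
    · intro v; rfl
    · intro v; rfl
  rw [h2]
  exact h1

/-- counting modulo a prime, on the whole space -/
theorem modEq_top [Finite V] {r : ℕ} [hr : Fact r.Prime] {g : L} (hg : g ^ r = 1) :
    Nat.card V ≡ Nat.card (Fx ρ g) [MOD r] := by
  have h := modEq (ρ := ρ) hg ⊤ (fun _ _ => trivial)
  rw [top_inf_eq] at h
  rwa [Nat.card_congr (Equiv.subtypeUnivEquiv (fun _ => trivial) : (⊤ : Submodule (ZMod p) V) ≃ V)] at h

/-- the order of a direct sum given by projections -/
theorem card_eq_prod [Finite V] {ι : Type*} [Fintype ι] [DecidableEq ι] (W : ι → Submodule (ZMod p) V)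
    (e : ι → V → V) (h1 : ∀ i v, e i v ∈ W i) (h2 : ∀ i, ∀ v ∈ W i, e i v = v)
    (h3 : ∀ i j, i ≠ j → ∀ v ∈ W j, e i v = 0) (h4 : ∀ v, ∑ i, e i v = v)
    (h5 : ∀ i v w, e i (v + w) = e i v + e i w) : Nat.card V = ∏ i, Nat.card (W i) := by
  rw [← Nat.card_pi]
  have h6 : ∀ i, ∀ (s : Finset ι) (x : ι → V), e i (∑ j ∈ s, x j) = ∑ j ∈ s, e i (x j) := by
    intro i s x
    classical
    induction s using Finset.induction_on with
    | empty =>
      rw [Finset.sum_empty, Finset.sum_empty]
      have := h5 i 0 0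
      rw [add_zero] at this
      exact left_eq_add.1 this
    | insert a s ha ih => rw [Finset.sum_insert ha, Finset.sum_insert ha, h5, ih]
  refine Nat.card_congr ⟨fun v i => ⟨e i v, h1 i v⟩, fun x => ∑ i, (x i : V), ?_, ?_⟩
  · intro v
    exact h4 v
  · intro x
    funext i
    apply Subtype.ext
    change e i (∑ j, (x j : V)) = x i
    rw [h6, Finset.sum_eq_single i (fun j _ hj => h3 i j (Ne.symm hj) _ (x j).2)
      (fun h => absurd (Finset.mem_univ _) h), h2 i _ (x i).2]

/-! ### Orbits -/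

/-- the nonzero vectors -/
abbrev Om (V : Type v) [AddCommGroup V] := {v : V // v ≠ 0}

/-- the action on the nonzero vectors -/
abbrev act (ρ : L →* (V ≃ₗ[ZMod p] V)) : MulAction L (Om V) where
  smul g v := ⟨ρ g v, by
    intro h
    exact v.2 ((ρ g).map_eq_zero_iff.1 h)⟩
  one_smul v := Subtype.ext (by
    change ρ 1 v.1 = v.1
    rw [map_one]; rfl)
  mul_smul g k v := Subtype.ext (by
    change ρ (g * k) v.1 = ρ g (ρ k v.1)
    rw [map_mul]; rfl)

theorem card_Om [Finite V] : Nat.card (Om V) + 1 = Nat.card V := by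
  classical
  have := Fintype.ofFinite V
  rw [Nat.card_eq_fintype_card, Nat.card_eq_fintype_card, Fintype.card_subtype_compl (fun v : V => v = 0)]
  have h1 : Fintype.card {x : V // x = 0} = 1 := Fintype.card_subtype_eq (0 : V)
  have : 0 < Fintype.card V := Fintype.card_pos_iff.2 ⟨0⟩
  omega

/-- the orbits on the nonzero vectors: length `m`, number `k` -/
theorem exists_orbits [Finite L] [Finite V] (hh : Half ρ) (hne : ∃ v : V, v ≠ 0) :
    ∃ m k : ℕ, (∀ v : V, v ≠ 0 → m * Nat.card {g : L // ρ g v = v} = Nat.card L) ∧ k * m + 1 = Nat.card V ∧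
      ∀ (r : ℕ) (g : L), r.Prime → g ^ r = 1 → k * (m % r) + 1 ≤ Nat.card (Fx ρ g) := by
  classical
  let _ := act ρ
  obtain ⟨v₀, hv₀⟩ := hne
  have hfin : Finite (Om V) := Subtype.finite
  have := Fintype.ofFinite (Om V)
  let Q := MulAction.orbitRel.Quotient L (Om V)
  have hQ : Finite Q := Quotient.finite _
  have := Fintype.ofFinite Q
  let π' : Om V → Q := fun v => Quotient.mk'' v
  let fib : Q → Finset (Om V) := fun ω => Finset.univ.filter fun v => π' v = ω
  have hstab : ∀ v : Om V, Nat.card (MulAction.stabilizer L v) = Nat.card {g : L // ρ g v.1 = v.1} := by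
    intro v
    refine Nat.card_congr ⟨fun g => ⟨g.1, congrArg Subtype.val g.2⟩, fun g => ⟨g.1, Subtype.ext g.2⟩, ?_, ?_⟩
    · intro g; rfl
    · intro g; rfl
  have hspos : 0 < Nat.card {g : L // ρ g v₀ = v₀} := by
    have : Nonempty {g : L // ρ g v₀ = v₀} := ⟨⟨1, by rw [map_one]; rfl⟩⟩
    exact Nat.card_pos
  have horb : ∀ v : Om V, Nat.card (MulAction.orbit L v) * Nat.card {g : L // ρ g v.1 = v.1} = Nat.card L := by
    intro v
    rw [← hstab, ← Nat.card_prod]
    exact Nat.card_congr (MulAction.orbitProdStabilizerEquivGroup L v)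
  obtain ⟨m, hm⟩ : ∃ m, m = Nat.card (MulAction.orbit L (⟨v₀, hv₀⟩ : Om V)) := ⟨_, rfl⟩
  have hm' : ∀ v : Om V, Nat.card (MulAction.orbit L v) = m := by
    intro v
    have h1 := horb v
    have h2 := horb ⟨v₀, hv₀⟩
    rw [← hm] at h2
    rw [hh v.1 v₀ v.2 hv₀] at h1
    exact Nat.eq_of_mul_eq_mul_right hspos (h1.trans h2.symm)
  have hmem : ∀ (v w : Om V), w ∈ fib (π' v) ↔ w ∈ MulAction.orbit L v := by
    intro v w
    rw [Finset.mem_filter]
    constructor
    · rintro ⟨-, h⟩
      exact Quotient.exact h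
    · intro h
      exact ⟨Finset.mem_univ _, Quotient.sound h⟩
  have hfib : ∀ ω : Q, (fib ω).card = m := by
    intro ω
    obtain ⟨v, rfl⟩ : ∃ v, π' v = ω := Quotient.exists_rep ω
    rw [← hm' v, ← Nat.card_eq_finsetCard]
    exact Nat.card_congr (Equiv.subtypeEquivRight (hmem v))
  have hsum : Nat.card (Om V) = Fintype.card Q * m := by
    rw [Nat.card_eq_fintype_card, ← Finset.card_univ, Finset.card_eq_sum_card_fiberwise (f := π') (t := Finset.univ)
      (fun _ _ => Finset.mem_coe.2 (Finset.mem_univ _))]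
    rw [Finset.sum_congr rfl (fun ω _ => hfib ω), Finset.sum_const, Finset.card_univ, smul_eq_mul]
  refine ⟨m, Fintype.card Q, ?_, ?_, ?_⟩
  · intro v hv
    have := horb ⟨v, hv⟩
    rwa [hm'] at this
  · rw [← hsum, card_Om]
  · intro r g hr hg
    have := Fact.mk hr
    -- the fixed points in the fibres
    have h1 : ∀ ω : Q, m % r ≤ ((fib ω).filter fun v => g • v = v).card := by
      intro ω
      have hin : ∀ v : {v // v ∈ fib ω}, g • v.1 ∈ fib ω := by
        intro v
        obtain ⟨v₁, rfl⟩ : ∃ v, π' v = ω := Quotient.exists_rep ω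
        rw [hmem]
        obtain ⟨x, hx⟩ := (hmem _ _).1 v.2
        exact ⟨g * x, by rw [← hx]; exact mul_smul g x v₁⟩
      let f : Function.End {v // v ∈ fib ω} := fun v => ⟨g • v.1, hin v⟩
      have hf' : ∀ n (v : {v // v ∈ fib ω}), ((f ^ n : Function.End {v // v ∈ fib ω}) v).1 = g ^ n • v.1 := by
        intro n
        induction n with
        | zero =>
          intro v
          rw [pow_zero, pow_zero, one_smul]
          rfl
        | succ n ih =>
          intro v
          rw [pow_succ f n, pow_succ g n]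
          change ((f ^ n : Function.End {v // v ∈ fib ω}) (f v)).1 = _
          rw [ih, mul_smul]
      have hf : f ^ r ^ 1 = 1 := by
        rw [pow_one]
        funext v
        apply Subtype.ext
        rw [hf', hg, one_smul]
        rfl
      have h2 := Equiv.Perm.card_fixedPoints_modEq hf
      have h3 : Fintype.card {v // v ∈ fib ω} = m := by rw [Fintype.card_coe, hfib]
      rw [h3] at h2
      have h4 : Fintype.card (Function.fixedPoints f) = ((fib ω).filter fun v => g • v = v).card := by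
        rw [← Fintype.card_coe]
        refine Fintype.card_congr ⟨fun v => ⟨v.1.1, ?_⟩, fun v => ⟨⟨v.1, (Finset.mem_filter.1 v.2).1⟩, ?_⟩, ?_, ?_⟩
        · exact Finset.mem_filter.2 ⟨v.1.2, congrArg Subtype.val v.2⟩
        · exact Subtype.ext (Finset.mem_filter.1 v.2).2
        · intro v; rfl
        · intro v; rfl
      rw [h4] at h2
      calc m % r = ((fib ω).filter fun v => g • v = v).card % r := h2
        _ ≤ _ := Nat.mod_le _ _
    have h2 : Fintype.card Q * (m % r) ≤ (Finset.univ.filter fun v : Om V => g • v = v).card := by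
      rw [Finset.card_eq_sum_card_fiberwise (f := π') (t := Finset.univ)
        (fun _ _ => Finset.mem_coe.2 (Finset.mem_univ _))]
      rw [← smul_eq_mul, ← Finset.card_univ, ← Finset.sum_const]
      refine Finset.sum_le_sum fun ω _ => (h1 ω).trans (le_of_eq ?_)
      congr 1
      ext v
      simp only [Finset.mem_filter, Finset.mem_univ, true_and, fib]
      exact and_comm
    have h3 : (Finset.univ.filter fun v : Om V => g • v = v).card = Nat.card (Om (Fx ρ g)) := by
      rw [← Nat.card_eq_finsetCard]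
      refine Nat.card_congr ⟨fun v => ⟨⟨v.1.1, ?_⟩, ?_⟩, fun v => ⟨⟨v.1.1, ?_⟩, ?_⟩, ?_, ?_⟩
      · exact congrArg Subtype.val (Finset.mem_filter.1 v.2).2
      · intro h
        exact v.1.2 (congrArg Subtype.val h)
      · intro h
        exact v.2 (Subtype.ext h)
      · exact Finset.mem_filter.2 ⟨Finset.mem_univ _, Subtype.ext v.1.2⟩
      · intro v; rfl
      · intro v; rfl
    have h4 := card_Om (V := Fx ρ g)
    rw [h3] at h2
    omega

/-! ### The endomorphisms -/

theorem dvd_of_free {C : Type*} [Group C] [Finite C] {X : Type*} [Finite X] [MulAction C X]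
    (h : ∀ (c : C) (x : X), c • x = x → c = 1) : Nat.card C ∣ Nat.card X := by
  classical
  have := Fintype.ofFinite C
  have := Fintype.ofFinite X
  have hQ : Finite (MulAction.orbitRel.Quotient C X) := Quotient.finite _
  have := Fintype.ofFinite (MulAction.orbitRel.Quotient C X)
  have h1 := MulAction.card_eq_sum_card_group_div_card_stabilizer C X
  rw [Nat.card_eq_fintype_card (α := X), h1, Nat.card_eq_fintype_card]
  apply Finset.dvd_sum
  intro ω _
  have h2 : Fintype.card (MulAction.stabilizer C ω.out) = 1 := by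
    rw [Fintype.card_eq_one_iff]
    exact ⟨1, fun c => Subtype.ext (h c.1 _ c.2)⟩
  rw [h2, Nat.div_one]

/-- the automorphisms commuting with the group -/
def Cen (ρ : L →* (V ≃ₗ[ZMod p] V)) : Subgroup (V ≃ₗ[ZMod p] V) where
  carrier := {e | ∀ g x, e (ρ g x) = ρ g (e x)}
  one_mem' := fun _ _ => rfl
  mul_mem' := by
    intro a c ha hc g x
    change a (c (ρ g x)) = ρ g (a (c x))
    rw [hc, ha]
  inv_mem' := by
    intro a ha g x
    apply a.injective
    change a (a.symm (ρ g x)) = a (ρ g (a.symm x))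
    rw [ha, LinearEquiv.apply_symm_apply, LinearEquiv.apply_symm_apply]

theorem mem_Cen {e : V ≃ₗ[ZMod p] V} : e ∈ Cen ρ ↔ ∀ g x, e (ρ g x) = ρ g (e x) := Iff.rfl

variable (h : Cfg p d b L V S π ρ)

include h

/-- Schur -/
theorem ker_eq_bot {f : V →ₗ[ZMod p] V} (hf : ∀ g x, f (ρ g x) = ρ g (f x)) (h0 : f ≠ 0) : LinearMap.ker f = ⊥ := by
  rcases h.irr (LinearMap.ker f) (fun g x hx => by
    rw [LinearMap.mem_ker] at hx ⊢
    rw [hf, hx, map_zero]) with h1 | h1
  · exact h1
  · exact absurd (LinearMap.ker_eq_top.1 h1) h0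

theorem Cen_free {e : V ≃ₗ[ZMod p] V} (he : e ∈ Cen ρ) {v : V} (hv : v ≠ 0) (hev : e v = v) : e = 1 := by
  by_contra h1
  have h2 : ((e : V →ₗ[ZMod p] V) - LinearMap.id) ≠ 0 := by
    intro h2
    apply h1
    ext x
    have := LinearMap.congr_fun h2 x
    rw [LinearMap.sub_apply, LinearMap.zero_apply, sub_eq_zero] at this
    exact this
  have h3 := ker_eq_bot h (f := (e : V →ₗ[ZMod p] V) - LinearMap.id) (fun g x => by
    simp only [LinearMap.sub_apply, LinearMap.id_apply, map_sub]
    congr 1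
    exact he g x) h2
  have h4 : v ∈ LinearMap.ker ((e : V →ₗ[ZMod p] V) - LinearMap.id) := by
    rw [LinearMap.mem_ker, LinearMap.sub_apply, LinearMap.id_apply, sub_eq_zero]
    exact hev
  rw [h3, Submodule.mem_bot] at h4
  exact hv h4

theorem card_Cen : Nat.card (Cen ρ) + 1 = p ^ b := by
  classical
  have hV := h.finV
  have : Finite (V →ₗ[ZMod p] V) := DFunLike.finite _
  have : Finite (V ≃ₗ[ZMod p] V) := DFunLike.finite _
  have := Fintype.ofFinite {f : V →ₗ[ZMod p] V // ∀ g x, f (ρ g x) = ρ g (f x)}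
  rw [← h.card_end]
  let X := {f : V →ₗ[ZMod p] V // ∀ g x, f (ρ g x) = ρ g (f x)}
  let z : X := ⟨0, fun g x => by rw [LinearMap.zero_apply, LinearMap.zero_apply, map_zero]⟩
  have h1 : Nat.card (Cen ρ) = Nat.card {x : X // x ≠ z} := by
    refine Nat.card_congr (Equiv.ofBijective (fun e => ⟨⟨(e.1 : V →ₗ[ZMod p] V), fun g x => e.2 g x⟩, ?_⟩) ⟨?_, ?_⟩)
    · intro h2
      have h3 : (e.1 : V →ₗ[ZMod p] V) = 0 := congrArg Subtype.val h2
      have h4 := h.prime
      have h5 : (1 : ℕ) < Nat.card V := by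
        rw [h.card_V]
        exact Nat.one_lt_pow (by have := h.b_lt; omega) h4.one_lt
      have : Nontrivial V := Finite.one_lt_card_iff_nontrivial.1 h5
      obtain ⟨v, hv⟩ := exists_ne (0 : V)
      apply hv
      apply e.1.injective
      rw [map_zero]
      exact LinearMap.congr_fun h3 v
    · intro e e' h2
      have h3 : (e.1 : V →ₗ[ZMod p] V) = e'.1 := congrArg (fun x => x.1.1) h2
      apply Subtype.ext
      ext v
      exact LinearMap.congr_fun h3 v
    · rintro ⟨⟨f, hf⟩, hf0⟩
      have h2 : f ≠ 0 := fun h2 => hf0 (Subtype.ext h2)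
      have h3 := LinearMap.ker_eq_bot.1 (ker_eq_bot h hf h2)
      have h4 : Function.Bijective f := ⟨h3, Finite.surjective_of_injective h3⟩
      exact ⟨⟨LinearEquiv.ofBijective f h4, fun g x => hf g x⟩, rfl⟩
  have := Fintype.ofFinite X
  rw [h1, Nat.card_eq_fintype_card, Nat.card_eq_fintype_card (α := X), Fintype.card_subtype_compl (fun x : X => x = z),
    Fintype.card_subtype_eq]
  have : 0 < Fintype.card X := Fintype.card_pos_iff.2 ⟨z⟩
  omega

/-- an `End`-invariant subspace has order `1` modulo `p ^ b - 1` -/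
theorem dvd_card (W : Submodule (ZMod p) V) (hW : ∀ e ∈ Cen ρ, ∀ v ∈ W, e v ∈ W) : p ^ b - 1 ∣ Nat.card W - 1 := by
  classical
  have hV := h.finV
  have : Finite (V ≃ₗ[ZMod p] V) := DFunLike.finite _
  let _ : MulAction (Cen ρ) (Om W) :=
    { smul := fun e v => ⟨⟨e.1 v.1, hW _ e.2 _ v.1.2⟩, by
        intro h1
        apply v.2
        have h2 : e.1 v.1 = 0 := congrArg Subtype.val h1
        exact Subtype.ext ((e.1.map_eq_zero_iff).1 h2)⟩
      one_smul := fun v => rfl
      mul_smul := fun a c v => rfl }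
  have h1 := dvd_of_free (C := Cen ρ) (X := Om W) (fun c x hx => by
    have h2 : c.1 x.1 = x.1 := congrArg (fun y : Om W => (y.1 : V)) hx
    exact Subtype.ext (Cen_free h c.2 (fun h3 => x.2 (Subtype.ext h3)) h2))
  have h2 := card_Om (V := W)
  have h3 := card_Cen h
  have h4 : p ^ b - 1 = Nat.card (Cen ρ) := by omega
  have h5 : Nat.card W - 1 = Nat.card (Om W) := by omega
  rw [h4, h5]
  exact h1

theorem dvd_card_Fx (g : L) : p ^ b - 1 ∣ Nat.card (Fx ρ g) - 1 :=
  dvd_card h _ fun e he v hv => by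
    rw [mem_Fx] at hv ⊢
    rw [← he, hv]

/-! ### The central extension -/

theorem card_eq : Nat.card L = Nat.card (Subgroup.center L) * Nat.card S := by
  rw [Subgroup.card_eq_card_quotient_mul_card_subgroup (Subgroup.center L), mul_comm, ← h.cent,
    Nat.card_congr (QuotientGroup.quotientKerEquivOfSurjective π h.surj).toEquiv]

theorem mem_center_iff {z : L} : z ∈ Subgroup.center L ↔ π z = 1 := by
  rw [← h.cent]; exact MonoidHom.mem_ker

/-- central elements have order dividing `p ^ b - 1` -/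
theorem pow_eq_one {z : L} (hz : π z = 1) : z ^ (p ^ b - 1) = 1 := by
  have := h.finL
  have h1 : (⟨z, (mem_center_iff h).2 hz⟩ : Subgroup.center L) ^ Nat.card (Subgroup.center L) = 1 := pow_card_eq_one'
  have h2 : z ^ Nat.card (Subgroup.center L) = 1 := congrArg Subtype.val h1
  obtain ⟨c, hc⟩ := h.card_center
  rw [hc, pow_mul, h2, one_pow]

theorem exists_lift {r : ℕ} (hr : r.Coprime (p ^ b - 1)) {x : S} (hx : x ^ r = 1) :
    ∃ y : L, π y = x ∧ y ^ r = 1 := by
  obtain ⟨y, rfl⟩ := h.surj x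
  obtain ⟨e, he1, he2⟩ := Nat.chineseRemainder hr 1 0
  refine ⟨y ^ e, ?_, ?_⟩
  · rw [map_pow]
    have h1 : e % orderOf (π y) = 1 % orderOf (π y) := he1.of_dvd (orderOf_dvd_of_pow_eq_one hx)
    rw [← pow_mod_orderOf, h1, pow_mod_orderOf, pow_one]
  · rw [← pow_mul, mul_comm, pow_mul]
    obtain ⟨c, hc⟩ := Nat.modEq_zero_iff_dvd.1 he2
    rw [hc, pow_mul, pow_eq_one h (by rw [map_pow, hx]), one_pow]

theorem commute_of {r : ℕ} (hr : r.Coprime (p ^ b - 1)) {x y : L} (hx : x ^ r = 1) (hxy : π x * π y = π y * π x) :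
    x * y = y * x := by
  have h1 : π (y * x * y⁻¹ * x⁻¹) = 1 := by
    rw [map_mul, map_mul, map_mul, map_inv, map_inv, ← hxy]; group
  have h2 := (mem_center_iff h).2 h1
  rw [Subgroup.mem_center_iff] at h2
  have h3 : y * x * y⁻¹ = (y * x * y⁻¹ * x⁻¹) * x := by group
  have h4 : (y * x * y⁻¹) ^ r = (y * x * y⁻¹ * x⁻¹) ^ r * x ^ r := by
    rw [h3, (show Commute (y * x * y⁻¹ * x⁻¹) x from (h2 x).symm).mul_pow]
    simp
  rw [conj_pow, hx, mul_one, mul_one, mul_inv_cancel] at h4
  have h5 : orderOf (y * x * y⁻¹ * x⁻¹) ∣ 1 := by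
    rw [← hr]
    exact Nat.dvd_gcd (orderOf_dvd_of_pow_eq_one h4.symm) (orderOf_dvd_of_pow_eq_one (pow_eq_one h h1))
  have h6 := orderOf_eq_one_iff.1 (Nat.dvd_one.1 h5)
  rw [mul_inv_eq_one, mul_inv_eq_iff_eq_mul] at h6
  exact h6.symm

/-- `S` has a proper subgroup of index at most `(p ^ d - 1) / (p ^ b - 1)` -/
theorem exists_index : ∃ H : Subgroup S, H ≠ ⊤ ∧ H.index * (p ^ b - 1) ≤ p ^ d - 1 := by
  classical
  have hL := h.finL
  have hV := h.finV
  have hfe : Finite (V ≃ₗ[ZMod p] V) := DFunLike.finite _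
  have hp := h.prime
  have hcard : (1 : ℕ) < Nat.card V := by
    rw [h.card_V]
    exact Nat.one_lt_pow (by have := h.b_lt; omega) hp.one_lt
  have : Nontrivial V := Finite.one_lt_card_iff_nontrivial.1 hcard
  obtain ⟨v, hv⟩ := exists_ne (0 : V)
  let H : Subgroup L :=
    { carrier := {g | ∃ e ∈ Cen ρ, ρ g v = e v}
      one_mem' := ⟨1, one_mem _, by rw [map_one]⟩
      mul_mem' := by
        rintro a c ⟨e, he, h1⟩ ⟨e', he', h2⟩
        refine ⟨e' * e, mul_mem he' he, ?_⟩
        rw [map_mul]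
        change ρ a (ρ c v) = e' (e v)
        rw [h2, ← he', h1]
      inv_mem' := by
        rintro a ⟨e, he, h1⟩
        refine ⟨e⁻¹, inv_mem he, ?_⟩
        have h3 := (inv_mem he : e⁻¹ ∈ Cen ρ)
        apply (ρ a).injective
        rw [← h3 a v, h1]
        have h4 : ρ a (ρ a⁻¹ v) = (ρ a * ρ a⁻¹) v := rfl
        rw [h4, ← map_mul, mul_inv_cancel, map_one]
        exact (e.symm_apply_apply v).symm }
  have hker : π.ker ≤ H := by
    intro z hz
    refine ⟨ρ z, ?_, rfl⟩
    intro g x
    have h1 := Subgroup.mem_center_iff.1 ((mem_center_iff h).2 hz) g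
    change (ρ z * ρ g) x = (ρ g * ρ z) x
    rw [← map_mul, ← map_mul, h1]
  refine ⟨H.map π, ?_, ?_⟩
  · intro htop
    have hH : H = ⊤ := by
      rw [eq_top_iff]
      intro g _
      have h1 : π g ∈ H.map π := by rw [htop]; trivial
      obtain ⟨k, hk, hkg⟩ := h1
      have h2 : k⁻¹ * g ∈ H := hker (by rw [MonoidHom.mem_ker, map_mul, map_inv, hkg, inv_mul_cancel])
      have h3 := mul_mem hk h2
      rwa [mul_inv_cancel_left] at h3
    let W : Submodule (ZMod p) V :=
      { carrier := {w | ∃ f : V →ₗ[ZMod p] V, (∀ g x, f (ρ g x) = ρ g (f x)) ∧ f v = w}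
        add_mem' := by
          rintro a c ⟨f, hf, rfl⟩ ⟨f', hf', rfl⟩
          refine ⟨f + f', fun g x => ?_, rfl⟩
          rw [LinearMap.add_apply, LinearMap.add_apply, hf, hf', map_add]
        zero_mem' := ⟨0, fun g x => by rw [LinearMap.zero_apply, LinearMap.zero_apply, map_zero], rfl⟩
        smul_mem' := by
          rintro c x ⟨f, hf, rfl⟩
          refine ⟨c • f, fun g x => ?_, rfl⟩
          rw [LinearMap.smul_apply, LinearMap.smul_apply, hf, map_smul] }
    have hW : ∀ g, ∀ x ∈ W, ρ g x ∈ W := by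
      rintro g _ ⟨f, hf, rfl⟩
      have hg : g ∈ H := by rw [hH]; trivial
      obtain ⟨e, he, h1⟩ := hg
      refine ⟨f ∘ₗ (e : V →ₗ[ZMod p] V), fun g' x => ?_, ?_⟩
      · change f (e (ρ g' x)) = ρ g' (f (e x))
        rw [he, hf]
      · change f (e v) = ρ g (f v)
        rw [← h1, hf]
    have hvW : v ∈ W := ⟨LinearMap.id, fun _ _ => rfl, rfl⟩
    rcases h.irr W hW with h1 | h1
    · rw [h1] at hvW
      exact hv hvW
    · have : Finite (V →ₗ[ZMod p] V) := DFunLike.finite _
      have h2 : Nat.card V ≤ Nat.card {f : V →ₗ[ZMod p] V // ∀ g x, f (ρ g x) = ρ g (f x)} := by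
        refine Nat.card_le_card_of_surjective (fun f => f.1 v) ?_
        intro w
        have h3 : w ∈ W := by rw [h1]; trivial
        obtain ⟨f, hf, h4⟩ := h3
        exact ⟨⟨f, hf⟩, h4⟩
      rw [h.card_end, h.card_V] at h2
      exact absurd (Nat.pow_lt_pow_right hp.one_lt h.b_lt) (not_lt.2 h2)
  · have h1 : (H.map π).index = H.index := Subgroup.index_map_eq H h.surj hker
    rw [h1]
    let act' : MulAction (L × Cen ρ) (Om V) :=
      { smul := fun ge x => ⟨ρ ge.1 (ge.2.1 x.1), fun h2 => x.2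
            ((ge.2.1.map_eq_zero_iff).1 (((ρ ge.1).map_eq_zero_iff).1 h2))⟩
        one_smul := fun x => Subtype.ext (by
          change ρ 1 (x.1) = x.1
          rw [map_one]; rfl)
        mul_smul := fun a c x => Subtype.ext (by
          change ρ (a.1 * c.1) (a.2.1 (c.2.1 x.1)) = ρ a.1 (a.2.1 (ρ c.1 (c.2.1 x.1)))
          rw [a.2.2, map_mul]; rfl) }
    have h2 : Nat.card (MulAction.orbit (L × Cen ρ) (⟨v, hv⟩ : Om V)) *
        Nat.card (MulAction.stabilizer (L × Cen ρ) (⟨v, hv⟩ : Om V)) = Nat.card L * Nat.card (Cen ρ) := by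
      rw [← Nat.card_prod, ← Nat.card_prod]
      exact Nat.card_congr (MulAction.orbitProdStabilizerEquivGroup _ _)
    have h3 : Nat.card (MulAction.stabilizer (L × Cen ρ) (⟨v, hv⟩ : Om V)) = Nat.card H := by
      refine Nat.card_congr (Equiv.ofBijective (fun x => ⟨x.1.1, ?_⟩) ⟨?_, ?_⟩)
      · have h4 : ρ x.1.1 (x.1.2.1 v) = v := congrArg Subtype.val x.2
        refine ⟨x.1.2.1⁻¹, inv_mem x.1.2.2, ?_⟩
        rw [← x.1.2.2] at h4
        apply x.1.2.1.injective
        rw [h4]
        exact (x.1.2.1.apply_symm_apply v).symm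
      · rintro ⟨⟨g, e⟩, hge⟩ ⟨⟨g', e'⟩, hge'⟩ h4
        have h5 : g = g' := congrArg Subtype.val h4
        subst h5
        have h6 : ρ g (e.1 v) = v := congrArg Subtype.val hge
        have h7 : ρ g (e'.1 v) = v := congrArg Subtype.val hge'
        have h8 : e.1 v = e'.1 v := (ρ g).injective (h6.trans h7.symm)
        have h9 : e'.1⁻¹ * e.1 = 1 := by
          apply Cen_free h (mul_mem (inv_mem e'.2) e.2) hv
          change e'.1.symm (e.1 v) = v
          rw [h8]
          exact e'.1.symm_apply_apply v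
        have h10 : e = e' := Subtype.ext (inv_mul_eq_one.1 h9).symm
        subst h10
        rfl
      · rintro ⟨g, e, he, h4⟩
        refine ⟨⟨⟨g, ⟨e⁻¹, inv_mem he⟩⟩, Subtype.ext ?_⟩, rfl⟩
        change ρ g (e⁻¹ v) = v
        have h5 := (inv_mem he : e⁻¹ ∈ Cen ρ)
        rw [← h5, h4]
        exact e.symm_apply_apply v
    have h4 : Nat.card (MulAction.orbit (L × Cen ρ) (⟨v, hv⟩ : Om V)) ≤ Nat.card (Om V) := by
      have : Finite (Om V) := Subtype.finite
      exact Nat.card_le_card_of_injective (fun x => x.1) Subtype.val_injective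
    have h5 := card_Om (V := V)
    rw [h.card_V] at h5
    have h6 := card_Cen h
    have h7 : Nat.card (Cen ρ) = p ^ b - 1 := by omega
    rw [h3, ← Subgroup.card_mul_index H] at h2
    have h8 : 0 < Nat.card H := Nat.card_pos
    have h9 : Nat.card (MulAction.orbit (L × Cen ρ) (⟨v, hv⟩ : Om V)) = H.index * Nat.card (Cen ρ) := by
      apply Nat.eq_of_mul_eq_mul_right h8
      rw [h2]; ring
    rw [← h7, ← h9]
    omega

/-- `|L|` divides `|GL_d(p)|` -/
theorem card_dvd_gl : Nat.card L ∣ ∏ i : Fin d, (p ^ d - p ^ (i : ℕ)) := by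
  have := Fact.mk h.prime
  have := h.finV
  have : FiniteDimensional (ZMod p) V := Module.Finite.of_finite
  let B : Module.Basis (Fin d) (ZMod p) V := Module.finBasisOfFinrankEq (ZMod p) V (finrank_eq h.card_V)
  let e1 : (V ≃ₗ[ZMod p] V) ≃* (Matrix (Fin d) (Fin d) (ZMod p))ˣ :=
    (LinearMap.GeneralLinearGroup.generalLinearEquiv (ZMod p) V).symm.trans
      (Units.mapEquiv (LinearMap.toMatrixAlgEquiv B).toMulEquiv)
  have h1 : Nat.card L ∣ Nat.card (V ≃ₗ[ZMod p] V) := Subgroup.card_dvd_of_injective ρ h.inj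
  rw [Nat.card_congr e1.toEquiv] at h1
  have h3 := Matrix.card_GL_field (𝔽 := ZMod p) d
  rw [ZMod.card] at h3
  rwa [h3] at h1

end Cfsg.Agent.H658.HerGen
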