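import Cfsg.Agent.H662.IndLocal
import Cfsg.Agent.S0906
import Cfsg.Agent.S0908
import Cfsg.Agent.S0912
import Cfsg.Agent.S0917
import Cfsg.Agent.S0919
import Cfsg.Agent.S0973

/-!
# Major subsections attached to the centre of a defect group

* `defect_le_of_induced`: the defect of a block is at most the defect of the block it induces;
* `isDefectGroup_root`: every block of `D C_G(D)` inducing a block with defect group `D` has defect
  group `D`;
* `exists_major`: for `z` in the centre of the defect group `D` of `B` and a block `b` of `D C_G(D)`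
  inducing `B`, the block of `C_G(z)` induced by `b` induces `B` and has defect group `D`.
-/

set_option autoImplicit false

open Cfsg

namespace Cfsg.Agent.H658

open Cfsg.Agent.H662 (eIn exists_defectGroup defectGroup_conj isInducedBlockIn_iff trans_in
  of_trans_in exists_in_overgroup le_defectGroup_of_normal tr trB)

variable {G : Type*} [Group G] [Finite G] {p : ℕ} [Fact p.Prime] {M : Ideal AlgInt}

/-- The defect of a block is at most the defect of the block it induces. -/
theorem defect_le_of_induced (hM : IsPModular p M) {H : Subgroup G} {b : Set (IrrCharacter H)}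
    {B : Set (IrrCharacter G)} (h : IsInducedBlock M H b B) :
    blockDefect p b ≤ blockDefect p B := by
  obtain ⟨D, hD⟩ := exists_defectGroup hM h.1
  obtain ⟨E, hE, hDE⟩ := Cfsg.Agent.S0917.result p M hM H b h.1 B h.2.1 h D hD
  have h1 := Cfsg.Agent.S0908.result p M hM b h.1 D hD
  have h2 := Cfsg.Agent.S0908.result p M hM B h.2.1 E hE
  have h3 : Nat.card D ≤ Nat.card E := by
    have h4 : Nat.card D = Nat.card (D.map H.subtype) :=
      Nat.card_congr (D.equivMapOfInjective H.subtype H.subtype_injective).toEquiv
    rw [h4]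
    exact Nat.card_le_card_of_injective _ (Subgroup.inclusion_injective hDE)
  rw [h1, h2] at h3
  exact (Nat.pow_le_pow_iff_right (Fact.out : p.Prime).one_lt).1 h3

omit [Finite G] in
theorem le_centralizer_of_mem_center {D : Subgroup G} {z : G}
    (hzc : ∀ w ∈ D, z * w = w * z) : D ≤ Subgroup.centralizer ({z} : Set G) := by
  intro w hw
  rw [Subgroup.mem_centralizer_singleton_iff]
  exact (hzc w hw).symm

omit [Finite G] in
theorem centralizer_le_of_mem {D : Subgroup G} {z : G} (hz : z ∈ D) :
    Subgroup.centralizer (D : Set G) ≤ Subgroup.centralizer ({z} : Set G) := by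
  apply Subgroup.centralizer_le
  intro x hx
  rw [Set.mem_singleton_iff.1 hx]
  exact hz

omit [Finite G] in
theorem root_le_centralizer {D : Subgroup G} {z : G} (hz : z ∈ D)
    (hzc : ∀ w ∈ D, z * w = w * z) :
    D ⊔ Subgroup.centralizer (D : Set G) ≤ Subgroup.centralizer ({z} : Set G) :=
  sup_le (le_centralizer_of_mem_center hzc) (centralizer_le_of_mem hz)

omit [Finite G] in
theorem root_le_normalizer (D : Subgroup G) :
    D ⊔ Subgroup.centralizer (D : Set G) ≤ Subgroup.normalizer (D : Set G) := by
  refine sup_le Subgroup.le_normalizer ?_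
  intro x hx
  rw [Subgroup.mem_normalizer_iff]
  intro y
  rw [Subgroup.mem_centralizer_iff] at hx
  constructor
  · intro hy
    have h1 := hx y hy
    have h2 : x * y * x⁻¹ = y := by rw [← h1]; group
    rw [h2]; exact hy
  · intro hy
    have h1 := hx _ hy
    have h2 : y = x * y * x⁻¹ := by
      have h3 : x * y = x * (x * y * x⁻¹) := by
        rw [← h1]; group
      exact mul_left_cancel h3
    rw [h2]; exact hy

/-- Every block of `D C_G(D)` inducing a block with defect group `D` has defect group `D`. -/
theorem isDefectGroup_root (hM : IsPModular p M) {B : Set (IrrCharacter G)} {D : Subgroup G}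
    (hD : IsDefectGroup p M B D)
    {b : Set (IrrCharacter ↥(D ⊔ Subgroup.centralizer (D : Set G)))}
    (hb : IsInducedBlock M (D ⊔ Subgroup.centralizer (D : Set G)) b B) :
    IsDefectGroup p M b (D.subgroupOf (D ⊔ Subgroup.centralizer (D : Set G))) := by
  have hDp : IsPGroup p D := Cfsg.Agent.Blocks.Basic.isPGroup_of_isDefectGroup hD
  obtain ⟨R, hR⟩ := exists_defectGroup hM hb.1
  have h1 := le_defectGroup_of_normal hM hDp (root_le_normalizer D) hb.1 hR
  have h2 := defect_le_of_induced hM hb
  have h3 := Cfsg.Agent.S0908.result p M hM b hb.1 R hR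
  have h4 := Cfsg.Agent.S0908.result p M hM B hb.2.1 D hD
  have h5 : Nat.card (D.subgroupOf (D ⊔ Subgroup.centralizer (D : Set G))) = Nat.card D :=
    Nat.card_congr (Subgroup.subgroupOfEquivOfLe (le_sup_left)).toEquiv
  have h6 : D.subgroupOf (D ⊔ Subgroup.centralizer (D : Set G)) = R := by
    refine Subgroup.eq_of_le_of_card_ge h1 ?_
    rw [h5, h3, h4]
    exact Nat.pow_le_pow_right (Fact.out : p.Prime).pos h2
  rw [h6]
  exact hR

/-- The major subsection of `z` in the centre of the defect group `D` attached to the block `b` of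
`D C_G(D)`. -/
theorem exists_major (hM : IsPModular p M) {B : Set (IrrCharacter G)} {D : Subgroup G}
    (hD : IsDefectGroup p M B D) {z : G} (hz : z ∈ D) (hzc : ∀ w ∈ D, z * w = w * z)
    {b : Set (IrrCharacter ↥(D ⊔ Subgroup.centralizer (D : Set G)))}
    (hb : IsInducedBlock M (D ⊔ Subgroup.centralizer (D : Set G)) b B) :
    ∃ f : Set (IrrCharacter (Subgroup.centralizer ({z} : Set G))),
      IsInducedBlockIn M (Subgroup.centralizer ({z} : Set G))
        (D ⊔ Subgroup.centralizer (D : Set G)) b f ∧
      IsInducedBlock M (Subgroup.centralizer ({z} : Set G)) f B ∧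
      IsDefectGroup p M f (D.subgroupOf (Subgroup.centralizer ({z} : Set G))) ∧
      blockDefect p f = blockDefect p B := by
  have hDp : IsPGroup p D := Cfsg.Agent.Blocks.Basic.isPGroup_of_isDefectGroup hD
  have hLC := root_le_centralizer hz hzc
  obtain ⟨f, hf, hfB⟩ := exists_in_overgroup hM hDp le_sup_left le_sup_right
    (root_le_normalizer D) hLC hb.1
  have hfB' := hfB B hb
  have hbD := isDefectGroup_root hM hD hb
  -- the defect group of the transported block
  have h1 := (isInducedBlockIn_iff hLC).1 hf
  have h2 := Cfsg.Agent.H662.isDefectGroup_trB (eIn hLC).symm hbD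
  obtain ⟨E, hE, hDE⟩ := Cfsg.Agent.S0917.result p M hM _ _ h1.1 f hf.2.1 h1 _ h2
  have h3 := Cfsg.Agent.S0908.result p M hM f hf.2.1 E hE
  have h4 := Cfsg.Agent.S0908.result p M hM B hb.2.1 D hD
  have h5 := defect_le_of_induced hM hfB'
  have h6 : ((D.subgroupOf (D ⊔ Subgroup.centralizer (D : Set G))).map
      (eIn hLC).symm.toMonoidHom).map
      ((D ⊔ Subgroup.centralizer (D : Set G)).subgroupOf
        (Subgroup.centralizer ({z} : Set G))).subtype =
      D.subgroupOf (Subgroup.centralizer ({z} : Set G)) := by
    ext x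
    rw [Subgroup.mem_subgroupOf, Subgroup.mem_map]
    constructor
    · rintro ⟨y, hy, rfl⟩
      obtain ⟨w, hw, rfl⟩ := Subgroup.mem_map.1 hy
      rw [Subgroup.mem_subgroupOf] at hw
      exact hw
    · intro hx
      have hxL : (x : G) ∈ D ⊔ Subgroup.centralizer (D : Set G) := Subgroup.mem_sup_left hx
      refine ⟨(eIn hLC).symm ⟨(x : G), hxL⟩, ?_, ?_⟩
      · exact Subgroup.mem_map.2 ⟨⟨(x : G), hxL⟩, Subgroup.mem_subgroupOf.2 hx, rfl⟩
      · exact Subtype.ext rfl
  have h7 : D.subgroupOf (Subgroup.centralizer ({z} : Set G)) = E := by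
    rw [h6] at hDE
    refine Subgroup.eq_of_le_of_card_ge hDE ?_
    have h8 : Nat.card (D.subgroupOf (Subgroup.centralizer ({z} : Set G))) = Nat.card D :=
      Nat.card_congr (Subgroup.subgroupOfEquivOfLe (le_centralizer_of_mem_center hzc)).toEquiv
    rw [h8, h3, h4]
    exact Nat.pow_le_pow_right (Fact.out : p.Prime).pos h5
  refine ⟨f, hf, hfB', by rw [h7]; exact hE, ?_⟩
  refine le_antisymm h5 ?_
  have h8 : Nat.card (D.subgroupOf (Subgroup.centralizer ({z} : Set G))) = Nat.card D :=
      Nat.card_congr (Subgroup.subgroupOfEquivOfLe (le_centralizer_of_mem_center hzc)).toEquiv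
  rw [← h7, h8, h4] at h3
  exact (Nat.pow_right_injective (Fact.out : p.Prime).two_le h3).le

end Cfsg.Agent.H658
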