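import Cfsg.Agent.Blocks.GaloisConj
import Mathlib

/-!
# Finite families of algebraic integers stable under Galois conjugation

* `exists_rat_of_forall`: an algebraic number fixed by all the embeddings of the algebraic closure of
  the rationals is rational.
* `card_le_sum`: a finite family of positive real algebraic integers which is permuted by all the
  embeddings has sum at least its cardinality (arithmetic and geometric means).
-/

set_option autoImplicit false

namespace Cfsg.Agent.H658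

open Cfsg.Agent.Blocks.GaloisConj

/-- An algebraic number fixed by all embeddings is rational. -/
theorem exists_rat_of_forall {n : ℕ} (hn : n ≠ 0) {z : ℂ} (hz : IsIntegral ℚ z)
    (h : ∀ (σ : algebraicClosure ℚ ℂ →+* ℂ) (m : ℕ), m.Coprime n →
      (∀ t : algebraicClosure ℚ ℂ, t ^ n = 1 → σ t = (t : ℂ) ^ m) →
      ∀ c : algebraicClosure ℚ ℂ, (c : ℂ) = z → σ c = z) : ∃ q : ℚ, (q : ℂ) = z := by
  by_contra hno
  have h1 : z ∉ (⊥ : Subalgebra ℚ ℂ) := by
    intro hmem
    obtain ⟨q, hq⟩ := Algebra.mem_bot.1 hmem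
    exact hno ⟨q, by simpa using hq⟩
  have hsep : IsSeparable ℚ z := (minpoly.irreducible hz).separable
  obtain ⟨w, hne, hw⟩ := (notMem_iff_exists_ne_and_isConjRoot (K := ℚ) (L := ℂ) hsep
    (IsAlgClosed.splits _)).1 h1
  obtain ⟨σ, hσ, m, hm, hσm⟩ := exists_embedding hn hz hw
  have hzK : z ∈ algebraicClosure ℚ ℂ := mem_algebraicClosure_iff'.2 hz
  have h2 := h σ m hm hσm ⟨z, hzK⟩ rfl
  rw [hσ ⟨z, hzK⟩ rfl] at h2
  exact hne h2.symm

/-- A finite family of positive real algebraic integers permuted by all the embeddings has sum at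
least its cardinality. -/
theorem card_le_sum {ι : Type*} [Fintype ι] (a : ι → ℝ) (ha : ∀ i, 0 < a i)
    (hint : ∀ i, IsIntegral ℤ (a i : ℂ)) {n : ℕ} (hn : n ≠ 0)
    (hσ : ∀ (σ : algebraicClosure ℚ ℂ →+* ℂ) (m : ℕ), m.Coprime n →
      (∀ t : algebraicClosure ℚ ℂ, t ^ n = 1 → σ t = (t : ℂ) ^ m) →
      ∃ π : Equiv.Perm ι, ∀ i, ∀ c : algebraicClosure ℚ ℂ, (c : ℂ) = (a i : ℂ) →
        σ c = (a (π i) : ℂ)) :
    (Fintype.card ι : ℝ) ≤ ∑ i, a i := by
  classical
  have hintQ : ∀ i, IsIntegral ℚ (a i : ℂ) := fun i => (hint i).tower_top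
  have hmem : ∀ i, (a i : ℂ) ∈ algebraicClosure ℚ ℂ := fun i =>
    mem_algebraicClosure_iff'.2 (hintQ i)
  have hP : IsIntegral ℤ ((∏ i, a i : ℝ) : ℂ) := by
    push_cast
    exact IsIntegral.prod _ fun i _ => hint i
  obtain ⟨q, hq⟩ := exists_rat_of_forall hn (z := ((∏ i, a i : ℝ) : ℂ)) hP.tower_top (by
    intro σ m hm hσm c hc
    obtain ⟨π, hπ⟩ := hσ σ m hm hσm
    have hc' : c = ∏ i, (⟨(a i : ℂ), hmem i⟩ : algebraicClosure ℚ ℂ) := by
      apply Subtype.ext
      rw [hc]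
      push_cast
      rfl
    rw [hc', map_prod]
    have h1 : ∀ i, σ (⟨(a i : ℂ), hmem i⟩ : algebraicClosure ℚ ℂ) = (a (π i) : ℂ) :=
      fun i => hπ i _ rfl
    simp only [h1]
    rw [Equiv.prod_comp π (fun i => (a i : ℂ))]
    push_cast
    rfl)
  have hqpos : 0 < ∏ i, a i := Finset.prod_pos fun i _ => ha i
  have hqr : (q : ℝ) = ∏ i, a i := by exact_mod_cast hq
  have hqint : IsIntegral ℤ (algebraMap ℚ ℂ q) := by
    have : algebraMap ℚ ℂ q = ((∏ i, a i : ℝ) : ℂ) := by rw [← hq]; rfl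
    rw [this]
    exact hP
  rw [isIntegral_algebraMap_iff (algebraMap ℚ ℂ).injective] at hqint
  obtain ⟨k, hk⟩ := IsIntegrallyClosed.isIntegral_iff.1 hqint
  have hk1 : (k : ℝ) = ∏ i, a i := by
    rw [← hqr, ← hk]
    simp
  have hkpos : 0 < k := by
    have : (0 : ℝ) < k := by rw [hk1]; exact hqpos
    exact_mod_cast this
  have hge : 1 ≤ ∏ i, a i := by
    rw [← hk1]
    exact_mod_cast hkpos
  have hlog : 0 ≤ ∑ i, Real.log (a i) := by
    rw [← Real.log_prod fun i _ => (ha i).ne']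
    exact Real.log_nonneg hge
  have h2 : ∑ i, Real.log (a i) ≤ ∑ i, (a i - 1) :=
    Finset.sum_le_sum fun i _ => Real.log_le_sub_one_of_pos (ha i)
  rw [Finset.sum_sub_distrib, Finset.sum_const, Finset.card_univ, nsmul_eq_mul, mul_one] at h2
  linarith

end Cfsg.Agent.H658
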