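import Cfsg.Agent.H658.HeightZeroSq

/-!
# Counting nonzero algebraic integers by a sum of squares

`count_le`: a family of integer combinations of `k`-th powers of `q`-th roots of unity such that for
all `k` prime to `q` at least `r` members are nonzero and the sum of the squares of the absolute
values is at most `N`: then `r ≤ N`.
-/

set_option autoImplicit false

open scoped ComplexConjugate

namespace Cfsg.Agent.H658

theorem count_le {α J : Type*} [Fintype α] [Fintype J] {q : ℕ} (hq : q ≠ 0) (ω : J → ℂ)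
    (hω : ∀ j, ω j ^ q = 1) (c : α → J → ℤ) (N : ℝ) (r : ℕ)
    (hN : ∀ k : ℕ, k.Coprime q → ∑ a, ‖∑ j, (c a j : ℂ) * ω j ^ k‖ ^ 2 ≤ N)
    (hr : ∀ k : ℕ, k.Coprime q → r ≤ Nat.card {a // ∑ j, (c a j : ℂ) * ω j ^ k ≠ 0}) :
    (r : ℝ) ≤ N := by
  classical
  have : NeZero q := ⟨hq⟩
  let x : α → ℕ → ℂ := fun a k => ∑ j, (c a j : ℂ) * ω j ^ k
  have hxQ : ∀ a k, x a k = ∑ j, ((c a j : ℚ) : ℂ) * ω j ^ k := by
    intro a k
    refine Finset.sum_congr rfl fun j _ => ?_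
    push_cast
    rfl
  have hco : ∀ κ : (ZMod q)ˣ, ((κ : ZMod q).val).Coprime q := fun κ => ZMod.val_coe_unit_coprime κ
  have hxint : ∀ a k, IsIntegral ℤ (x a k) := by
    intro a k
    refine IsIntegral.sum _ fun j _ => IsIntegral.mul ?_ (IsIntegral.pow ?_ k)
    · exact isIntegral_algebraMap (R := ℤ) (x := c a j)
    · exact isIntegral_of_pow_eq_one hq (hω j)
  have hsq : ∀ a k, ((‖x a k‖ ^ 2 : ℝ) : ℂ) = x a k * conj (x a k) := by
    intro a k
    rw [Complex.mul_conj, Complex.normSq_eq_norm_sq]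
  have hint : ∀ a k, IsIntegral ℤ ((‖x a k‖ ^ 2 : ℝ) : ℂ) := by
    intro a k
    rw [hsq]
    exact (hxint a k).mul (isIntegral_conj (hxint a k))
  -- the action of the embeddings
  have hact : ∀ (σ : algebraicClosure ℚ ℂ →+* ℂ) (m : ℕ) (hm : m.Coprime q),
      (∀ t : algebraicClosure ℚ ℂ, t ^ q = 1 → σ t = (t : ℂ) ^ m) → ∀ (a : α) (κ : (ZMod q)ˣ)
      (y : algebraicClosure ℚ ℂ), (y : ℂ) = ((‖x a ((κ : ZMod q).val)‖ ^ 2 : ℝ) : ℂ) →
      σ y = ((‖x a ((((κ * ZMod.unitOfCoprime m hm : (ZMod q)ˣ)) : ZMod q).val)‖ ^ 2 : ℝ) : ℂ) := by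
    intro σ m hm hσm a κ y hy
    have h1 : (y : ℂ) = ∑ i : J × J, (((c a i.1 : ℚ) * (c a i.2 : ℚ) : ℚ) : ℂ) *
        (ω i.1 * conj (ω i.2)) ^ ((κ : ZMod q).val) := by
      rw [hy, hxQ, ← normSq_sum (fun j => (c a j : ℚ)) ω]
    have h2 := sigma_sum hq _ _ (fun i : J × J =>
      pow_mul_conj_eq_one (hω i.1) (hω i.2)) σ m hσm _ y h1
    rw [h2, ← normSq_sum (fun j => (c a j : ℚ)) ω]
    have h3 : ∑ j, ((c a j : ℚ) : ℂ) * ω j ^ ((κ : ZMod q).val * m) =
        x a ((((κ * ZMod.unitOfCoprime m hm : (ZMod q)ˣ)) : ZMod q).val) := by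
      rw [hxQ]
      refine Finset.sum_congr rfl fun i _ => ?_
      congr 1
      have h4 : ((κ : ZMod q).val * m) % q =
          ((((κ * ZMod.unitOfCoprime m hm : (ZMod q)ˣ)) : ZMod q).val) % q := by
        rw [Units.val_mul, ZMod.val_mul, Nat.mod_mod]
        have h5 : ((ZMod.unitOfCoprime m hm : (ZMod q)ˣ) : ZMod q).val = m % q := by
          rw [ZMod.coe_unitOfCoprime, ZMod.val_natCast]
        rw [h5, Nat.mul_mod_mod]
      rw [pow_eq_pow_mod _ (hω i), h4, ← pow_eq_pow_mod _ (hω i)]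
    rw [h3]
  let S := {i : α × (ZMod q)ˣ // x i.1 ((i.2 : ZMod q).val) ≠ 0}
  have hmain := card_le_sum (fun i : S => ‖x i.1.1 ((i.1.2 : ZMod q).val)‖ ^ 2)
    (fun i => pow_pos (norm_pos_iff.2 i.2) 2) (fun i => hint _ _) hq (by
      intro σ m hm hσm
      have hiff : ∀ i : α × (ZMod q)ˣ, x i.1 ((i.2 : ZMod q).val) ≠ 0 ↔
          x i.1 ((((i.2 * ZMod.unitOfCoprime m hm : (ZMod q)ˣ)) : ZMod q).val) ≠ 0 := by
        rintro ⟨a, κ⟩
        dsimp only
        have hmem : ((‖x a ((κ : ZMod q).val)‖ ^ 2 : ℝ) : ℂ) ∈ algebraicClosure ℚ ℂ :=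
          mem_algebraicClosure_iff'.2 (hint a _).tower_top
        have h1 := hact σ m hm hσm a κ ⟨_, hmem⟩ rfl
        rw [not_iff_not]
        constructor
        · intro h0
          have h2 : (⟨_, hmem⟩ : algebraicClosure ℚ ℂ) = 0 := by
            apply Subtype.ext
            change ((‖x a ((κ : ZMod q).val)‖ ^ 2 : ℝ) : ℂ) = 0
            rw [h0, norm_zero]
            norm_num
          rw [h2, map_zero] at h1
          have h3 : ‖x a ((((κ * ZMod.unitOfCoprime m hm : (ZMod q)ˣ)) : ZMod q).val)‖ ^ 2 = 0 := by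
            exact_mod_cast h1.symm
          rwa [pow_eq_zero_iff two_ne_zero, norm_eq_zero] at h3
        · intro h0
          rw [h0, norm_zero] at h1
          have h2 : σ (⟨_, hmem⟩ : algebraicClosure ℚ ℂ) = 0 := by rw [h1]; norm_num
          rw [map_eq_zero] at h2
          have h3 : ((‖x a ((κ : ZMod q).val)‖ ^ 2 : ℝ) : ℂ) = 0 := congrArg Subtype.val h2
          have h4 : ‖x a ((κ : ZMod q).val)‖ ^ 2 = 0 := by exact_mod_cast h3
          rwa [pow_eq_zero_iff two_ne_zero, norm_eq_zero] at h4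
      refine ⟨Equiv.subtypeEquiv (Equiv.prodCongr (Equiv.refl α)
        (Equiv.mulRight (ZMod.unitOfCoprime m hm))) hiff, ?_⟩
      rintro ⟨⟨a, κ⟩, h0⟩ y hy
      exact hact σ m hm hσm a κ y hy)
  -- the sum
  have hsum : ∑ i : S, ‖x i.1.1 ((i.1.2 : ZMod q).val)‖ ^ 2 ≤
      (Fintype.card (ZMod q)ˣ : ℝ) * N := by
    have h1 : ∑ i : S, ‖x i.1.1 ((i.1.2 : ZMod q).val)‖ ^ 2 ≤
        ∑ i : α × (ZMod q)ˣ, ‖x i.1 ((i.2 : ZMod q).val)‖ ^ 2 := by
      rw [← Finset.sum_subtype (Finset.univ.filter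
        fun i : α × (ZMod q)ˣ => x i.1 ((i.2 : ZMod q).val) ≠ 0)
        (p := fun i => x i.1 ((i.2 : ZMod q).val) ≠ 0) (by simp)
        (fun i => ‖x i.1 ((i.2 : ZMod q).val)‖ ^ 2)]
      exact Finset.sum_le_univ_sum_of_nonneg fun i => by positivity
    refine h1.trans ?_
    rw [Fintype.sum_prod_type, Finset.sum_comm]
    refine (Finset.sum_le_sum fun κ _ => hN _ (hco κ)).trans ?_
    rw [Finset.sum_const, Finset.card_univ, nsmul_eq_mul]
  have hcard : (Fintype.card (ZMod q)ˣ : ℝ) * r ≤ (Fintype.card S : ℝ) := by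
    have h1 : Fintype.card S = ∑ κ : (ZMod q)ˣ, Nat.card {a // x a ((κ : ZMod q).val) ≠ 0} := by
      let e : S ≃ (κ : (ZMod q)ˣ) × {a // x a ((κ : ZMod q).val) ≠ 0} :=
        { toFun := fun i => ⟨i.1.2, i.1.1, i.2⟩
          invFun := fun i => ⟨(i.2.1, i.1), i.2.2⟩
          left_inv := fun i => rfl
          right_inv := fun i => rfl }
      rw [Fintype.card_congr e, Fintype.card_sigma]
      exact Finset.sum_congr rfl fun κ _ => (Nat.card_eq_fintype_card).symm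
    rw [h1]
    push_cast
    have h2 : ∑ κ : (ZMod q)ˣ, (r : ℝ) ≤
        ∑ κ : (ZMod q)ˣ, (Nat.card {a // x a ((κ : ZMod q).val) ≠ 0} : ℝ) :=
      Finset.sum_le_sum fun κ _ => by exact_mod_cast hr _ (hco κ)
    rwa [Finset.sum_const, Finset.card_univ, nsmul_eq_mul] at h2
  have hpos : (0 : ℝ) < Fintype.card (ZMod q)ˣ := by
    exact_mod_cast Fintype.card_pos
  exact le_of_mul_le_mul_left ((hcard.trans hmain).trans hsum) hpos

end Cfsg.Agent.H658
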