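import Cfsg.Agent.H658.InertialBound

/-!
# The bound `k(B) ≤ p ^ d * l(b)` for a major subsection `(u, b)`
-/

set_option autoImplicit false
set_option linter.unusedSectionVars false

open Cfsg
open scoped ComplexConjugate

namespace Cfsg.Agent.H658

open Cfsg.Agent.Blocks.Local Cfsg.Agent.Characters Cfsg.Agent.Blocks.Blau
open Cfsg.Agent.H613.RegGram Cfsg.Agent.H613.Contrib Cfsg.Agent.H613.ContribVal

variable {G : Type*} [Group G] [Finite G] {p : ℕ} [Fact p.Prime] {M : Ideal AlgInt}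

/-- For a major subsection `(u, b)` of `B`: `k(B) ≤ p ^ d * l(b)`. -/
theorem card_le_pow_mul_blockRank (hM : IsPModular p M) {u : G} (hu : ∃ k : ℕ, orderOf u = p ^ k)
    {H : Subgroup G} (hH : H = Subgroup.centralizer ({u} : Set G))
    {b : Set (IrrCharacter H)} {B : Set (IrrCharacter G)}
    (hind : IsInducedBlock M H b B) (hd : blockDefect p b = blockDefect p B) :
    Nat.card B ≤ p ^ blockDefect p B * blockRank p b := by
  classical
  have hpp : p.Prime := Fact.out
  have := Fintype.ofFinite G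
  have := Fintype.ofFinite H
  have := Core.finite_irr (G := H)
  have := Fintype.ofFinite (IrrCharacter H)
  have := Core.finite_irr (G := G)
  have := Fintype.ofFinite (IrrCharacter G)
  have : Fintype B := Fintype.ofFinite B
  have : Fintype b := Fintype.ofFinite b
  obtain ⟨j, hj⟩ := hu
  obtain ⟨q, hqdef⟩ : ∃ q, q = p ^ j := ⟨_, rfl⟩
  have hq0 : q ≠ 0 := by rw [hqdef]; exact pow_ne_zero _ hpp.ne_zero
  have : NeZero q := ⟨hq0⟩
  have huq : u ^ q = 1 := by rw [hqdef, ← hj]; exact pow_orderOf_eq_one u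
  have hcen : ∀ k : ℕ, k.Coprime q → H = Subgroup.centralizer ({u ^ k} : Set G) := by
    intro k hk
    rw [Cfsg.Agent.Blocks.GaloisConj.centralizer_pow_eq huq hk]
    exact hH
  have hord : ∀ k : ℕ, ∃ i : ℕ, orderOf (u ^ k) = p ^ i := by
    intro k
    have h1 : orderOf (u ^ k) ∣ p ^ j := by rw [← hj]; exact orderOf_pow_dvd k
    obtain ⟨i, -, hi⟩ := (Nat.dvd_prime_pow hpp).1 h1
    exact ⟨i, hi⟩
  have hcop : ∀ κ : (ZMod q)ˣ, ((κ : ZMod q).val).Coprime q := fun κ => ZMod.val_coe_unit_coprime κ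
  have hpos : ∀ (χ : B) (κ : (ZMod q)ˣ),
      0 < (p : ℝ) ^ blockDefect p b * cn p (u ^ (κ : ZMod q).val) b (χ : G → ℂ) := by
    intro χ κ
    have h2 := contr_self_ne_zero hM (hord _) (hcen _ (hcop κ)) hind hd χ.2
    rw [contr_self_eq_cn] at h2
    refine mul_pos (pow_pos (by exact_mod_cast hpp.pos) _)
      (lt_of_le_of_ne (cn_nonneg _ _ _ _) fun h => h2 ?_)
    rw [← h]
    norm_num
  have hint : ∀ (χ : B) (κ : (ZMod q)ˣ), IsIntegral ℤ
      (((p : ℝ) ^ blockDefect p b * cn p (u ^ (κ : ZMod q).val) b (χ : G → ℂ) : ℝ) : ℂ) := by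
    intro χ κ
    have h1 := isIntegral_pow_mul_contr hM (hord _) (hcen _ (hcop κ)) hind.1 χ χ
    rw [contr_self_eq_cn] at h1
    push_cast
    exact h1
  have hsum : ∀ κ : (ZMod q)ˣ, ∑ χ : B,
      (p : ℝ) ^ blockDefect p b * cn p (u ^ (κ : ZMod q).val) b (χ : G → ℂ) =
        (p : ℝ) ^ blockDefect p b * blockRank p b := by
    intro κ
    rw [← Finset.mul_sum]
    congr 1
    have h1 := sum_contr_self hM (hord _) (hcen _ (hcop κ)) hind
    simp only [contr_self_eq_cn] at h1
    exact_mod_cast h1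
  have hmain := card_le_sum (fun i : B × (ZMod q)ˣ =>
    (p : ℝ) ^ blockDefect p b * cn p (u ^ (i.2 : ZMod q).val) b (i.1 : G → ℂ))
    (fun i => hpos i.1 i.2) (fun i => hint i.1 i.2) hq0 (by
      intro σ m hm hσ
      refine ⟨Equiv.prodCongr (Equiv.refl _) (Equiv.mulRight (ZMod.unitOfCoprime m hm)), ?_⟩
      rintro ⟨χ, κ⟩ x hx
      have huq' : (u ^ (κ : ZMod q).val) ^ q = 1 := by
        rw [← pow_mul, mul_comm, pow_mul, huq, one_pow]
      have h1 := sigma_contr hM hq0 huq' (hcen _ (hcop κ)) hind.1 (χ : IrrCharacter G) σ m hm hσ 1 x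
        (by rw [hx]; norm_num)
      rw [h1]
      have h2 : (u ^ (κ : ZMod q).val) ^ m =
          u ^ (((κ * ZMod.unitOfCoprime m hm : (ZMod q)ˣ) : ZMod q).val) := by
        rw [← pow_mul]
        refine (pow_eq_pow_iff_modEq.2 ?_)
        refine Nat.ModEq.of_dvd (orderOf_dvd_of_pow_eq_one huq) ?_
        rw [← ZMod.natCast_eq_natCast_iff]
        simp
      rw [h2]
      push_cast
      rw [one_mul]
      rfl)
  rw [Fintype.sum_prod_type, Finset.sum_comm, Finset.sum_congr rfl fun κ _ => hsum κ,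
    Finset.sum_const, Finset.card_univ, nsmul_eq_mul, Fintype.card_prod] at hmain
  push_cast at hmain
  have hu0 : (0 : ℝ) < (Fintype.card (ZMod q)ˣ : ℝ) := by exact_mod_cast Fintype.card_pos
  rw [mul_comm] at hmain
  have h3 := le_of_mul_le_mul_left hmain hu0
  rw [Nat.card_eq_fintype_card, ← hd]
  exact_mod_cast h3

end Cfsg.Agent.H658
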