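import Cfsg.Agent.H658.Dual

/-!
# The pattern of the characters of a block with a cyclic defect group on the `p`-regular elements

`CyclicPattern p M` is the statement needed from the theory of blocks with a cyclic defect group.
-/

set_option autoImplicit false
set_option linter.unusedSectionVars false

open Cfsg
open scoped ComplexConjugate

namespace Cfsg.Agent.H658

open Cfsg.Agent.Blocks.Local Cfsg.Agent.Characters

universe u

theorem div_add_le {p a e : ℕ} (hp : 1 < p) (ha : 1 ≤ a) (he : e ∣ p - 1) :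
    (p ^ a - 1) / e + e ≤ p ^ a := by
  have h0 : 0 < p - 1 := by omega
  have he0 : 0 < e := Nat.pos_of_dvd_of_pos he h0
  have he1 : e ≤ p - 1 := Nat.le_of_dvd h0 he
  have h1 : p ^ 1 ≤ p ^ a := Nat.pow_le_pow_right (by omega) ha
  rw [pow_one] at h1
  obtain ⟨N, hN⟩ : ∃ N, N = p ^ a := ⟨_, rfl⟩
  rw [← hN] at h1 ⊢
  have h2 : 1 ≤ (N - 1) / e := by
    rw [Nat.le_div_iff_mul_le he0]
    omega
  have h3 : (N - 1) / e * e ≤ N - 1 := Nat.div_mul_le_self _ _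
  obtain ⟨t, ht⟩ : ∃ t, t = (N - 1) / e := ⟨_, rfl⟩
  rw [← ht] at h2 h3 ⊢
  obtain ⟨t', rfl⟩ : ∃ t', t = t' + 1 := ⟨t - 1, by omega⟩
  obtain ⟨e', rfl⟩ : ∃ e', e = e' + 1 := ⟨e - 1, by omega⟩
  have h4 : (t' + 1) * (e' + 1) = t' * e' + t' + e' + 1 := by ring
  rw [h4] at h3
  have h5 : 0 ≤ t' * e' := Nat.zero_le _
  omega

/-- The consequences of the theory of blocks with a cyclic defect group, as a property of `p`
and `M`. -/
def CyclicPattern (p : ℕ) (M : Ideal AlgInt) : Prop :=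
  ∀ (G : Type u) [Group G] [Finite G] (D : Subgroup G), IsCyclic D → ∀ a : ℕ, 1 ≤ a →
    Nat.card D = p ^ a → ∀ B : Set (IrrCharacter G), IsPBlock M B → IsDefectGroup p M B D →
    ∃ (e : ℕ) (X Y : Set (IrrCharacter G)) (δ : IrrCharacter G → ℤ) (δ₀ : ℤ),
      0 < e ∧ Nat.card Y + e ≤ p ^ a ∧ blockRank p B = e ∧ B = X ∪ Y ∧ Disjoint X Y ∧
      Nat.card X = e ∧ (∀ χ ∈ X, δ χ = 1 ∨ δ χ = -1) ∧ (δ₀ = 1 ∨ δ₀ = -1) ∧
      ∀ ψ ∈ Y, ∀ g : G, ¬ p ∣ orderOf g →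
        (δ₀ : ℂ) * (ψ : G → ℂ) g + ∑ᶠ χ ∈ X, (δ χ : ℂ) * (χ : G → ℂ) g = 0

end Cfsg.Agent.H658
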