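import Cfsg.Agent.H658.QuadForm
import Cfsg.Agent.H658.Domin

/-!
# The dual basis of a block with the Brauer tree relation on the `p`-regular elements

`c = X ∪ Y` is a block with `|X| = l(c) = e`, such that on the `p`-regular elements
`δ₀ ψ + ∑_{χ ∈ X} δ χ • χ = 0` for all `ψ ∈ Y`.
-/

set_option autoImplicit false
set_option linter.unusedSectionVars false

open Cfsg
open scoped ComplexConjugate

namespace Cfsg.Agent.H658

open Cfsg.Agent.Blocks.Local Cfsg.Agent.Characters Cfsg.Agent.Blocks.Blau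
open Cfsg.Agent.H613.RegGram Cfsg.Agent.H613.Contrib Cfsg.Agent.H613.ContribVal
open Cfsg.Agent.H644.CentralQuot

section dual

variable {K : Type*} [Group K] [Fintype K] {p : ℕ} [Fact p.Prime] {M : Ideal AlgInt}

theorem rg_eq_classInner_of_vanish (f : K → ℂ) {g : K → ℂ} (h : ∀ y, p ∣ orderOf y → g y = 0) :
    rg p f g = classInner f g := by
  rw [rg_eq_classInner]
  unfold classInner
  congr 1
  refine Finset.sum_congr rfl fun x _ => ?_
  by_cases hx : p ∣ orderOf x
  · rw [h x hx, map_zero, mul_zero, mul_zero]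
  · rw [regPart_of_not_dvd hx]

/-- The dual basis of a block with a basic set. `z` is the decomposition matrix with respect to
the functions `φ i`. -/
theorem rg_dual (hM : IsPModular p M) {c : Set (IrrCharacter K)} [Fintype c] (hc : IsPBlock M c)
    {e : ℕ} (hr : blockRank p c = e) (z : c → Fin e → ℤ) (φ : Fin e → K → ℂ)
    (hz : ∀ (θ : c) (x : K), ¬ p ∣ orderOf x → (θ : K → ℂ) x = ∑ i, (z θ i : ℂ) * φ i x)
    (hφ : ∀ i, regPart p (φ i) ∈ Submodule.span ℂ
      ((fun χ : IrrCharacter K => pRegularPart p (χ : K → ℂ)) '' c)) :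
    ∀ (θ : c) (i : Fin e), rg p (θ : K → ℂ) (∑ θ' : c, (z θ' i : ℂ) • (θ' : K → ℂ)) = z θ i := by
  classical
  -- the functions `φ i` are linearly independent
  have hspan : Submodule.span ℂ (Set.range fun i => regPart p (φ i)) =
      Submodule.span ℂ ((fun χ : IrrCharacter K => pRegularPart p (χ : K → ℂ)) '' c) := by
    apply le_antisymm
    · rw [Submodule.span_le]
      rintro _ ⟨i, rfl⟩
      exact hφ i
    · rw [Submodule.span_le]
      rintro _ ⟨χ, hχ, rfl⟩
      have h1 : pRegularPart p (χ : K → ℂ) = ∑ i, (z ⟨χ, hχ⟩ i : ℂ) • regPart p (φ i) := by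
        rw [pRegularPart_eq_regPart]
        funext x
        rw [Finset.sum_apply]
        by_cases hx : p ∣ orderOf x
        · rw [regPart_of_dvd hx]
          symm
          refine Finset.sum_eq_zero fun i _ => ?_
          rw [Pi.smul_apply, regPart_of_dvd hx, smul_zero]
        · rw [regPart_of_not_dvd hx]
          refine (hz ⟨χ, hχ⟩ x hx).trans (Finset.sum_congr rfl fun i _ => ?_)
          rw [Pi.smul_apply, regPart_of_not_dvd hx, smul_eq_mul]
      change pRegularPart p (χ : K → ℂ) ∈ _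
      rw [h1]
      exact Submodule.sum_mem _ fun i _ => Submodule.smul_mem _ _ (Submodule.subset_span ⟨i, rfl⟩)
  have hli : LinearIndependent ℂ fun i => regPart p (φ i) := by
    rw [linearIndependent_iff_card_eq_finrank_span, Set.finrank, hspan, Fintype.card_fin]
    exact hr.symm
  -- the combinations vanish on the `p`-singular elements
  have hvan : ∀ (i : Fin e) (y : K), p ∣ orderOf y →
      (∑ θ' : c, (z θ' i : ℂ) • (θ' : K → ℂ)) y = 0 := by
    intro i y hy
    have h1 : ∑ i, conj ((∑ θ' : c, (z θ' i : ℂ) • (θ' : K → ℂ)) y) • regPart p (φ i) = 0 := by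
      funext x
      rw [Finset.sum_apply, Pi.zero_apply]
      by_cases hx : p ∣ orderOf x
      · refine Finset.sum_eq_zero fun i _ => ?_
        rw [Pi.smul_apply, regPart_of_dvd hx, smul_zero]
      · have h2 := Cfsg.Agent.S0907.result p M hM c hc x y hx hy
        rw [← finsum_set_coe_eq_finsum_mem, finsum_eq_sum_of_fintype] at h2
        rw [← h2]
        have h3 : ∀ i, (conj ((∑ θ' : c, (z θ' i : ℂ) • (θ' : K → ℂ)) y) •
            regPart p (φ i)) x = ∑ θ' : c, (z θ' i : ℂ) * φ i x * conj ((θ' : K → ℂ) y) := by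
          intro i
          rw [Pi.smul_apply, regPart_of_not_dvd hx, smul_eq_mul, Finset.sum_apply, map_sum,
            Finset.sum_mul]
          refine Finset.sum_congr rfl fun θ' _ => ?_
          rw [Pi.smul_apply, smul_eq_mul, map_mul, map_intCast]
          ring
        rw [Finset.sum_congr rfl fun i _ => h3 i, Finset.sum_comm]
        refine Finset.sum_congr rfl fun θ' _ => ?_
        rw [← Finset.sum_mul, ← hz θ' x hx]
    have h2 := Fintype.linearIndependent_iff.1 hli _ h1 i
    rwa [map_eq_zero] at h2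
  intro θ i
  rw [rg_eq_classInner_of_vanish _ (hvan i), Core.classInner_sum_right]
  rw [Finset.sum_eq_single θ]
  · rw [Core.classInner_smul_right, Core.classInner_irr_self θ.1.2, map_intCast, mul_one]
  · intro θ' _ hne
    rw [Core.classInner_smul_right, Core.classInner_irr_ne θ.1.2 θ'.1.2, mul_zero]
    intro h
    exact hne (Subtype.ext (Subtype.ext h.symm))
  · intro h
    exact absurd (Finset.mem_univ _) h

theorem rg_dual_dual (hM : IsPModular p M) {c : Set (IrrCharacter K)} [Fintype c]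
    (hc : IsPBlock M c)
    {e : ℕ} (hr : blockRank p c = e) (z : c → Fin e → ℤ) (φ : Fin e → K → ℂ)
    (hz : ∀ (θ : c) (x : K), ¬ p ∣ orderOf x → (θ : K → ℂ) x = ∑ i, (z θ i : ℂ) * φ i x)
    (hφ : ∀ i, regPart p (φ i) ∈ Submodule.span ℂ
      ((fun χ : IrrCharacter K => pRegularPart p (χ : K → ℂ)) '' c)) (i j : Fin e) :
    rg p (∑ θ' : c, (z θ' j : ℂ) • (θ' : K → ℂ)) (∑ θ' : c, (z θ' i : ℂ) • (θ' : K → ℂ)) =
      ∑ θ' : c, (z θ' j : ℂ) * z θ' i := by
  rw [rg_sum_smul_left]
  exact Finset.sum_congr rfl fun θ' _ => by rw [rg_dual hM hc hr z φ hz hφ]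

/-- The decomposition matrix of a block with the relation of a Brauer tree with `e` edges in the
case of a star with an exceptional vertex. -/
theorem exists_decomp {c X Y : Set (IrrCharacter K)} [Fintype c] (hXY : c = X ∪ Y)
    (hdis : Disjoint X Y) {e : ℕ} (hX : Nat.card X = e) {δ : IrrCharacter K → ℤ} {δ₀ : ℤ}
    (hδ : ∀ χ ∈ X, δ χ = 1 ∨ δ χ = -1) (hδ₀ : δ₀ = 1 ∨ δ₀ = -1)
    (hrel : ∀ ψ ∈ Y, ∀ g : K, ¬ p ∣ orderOf g →
      (δ₀ : ℂ) * (ψ : K → ℂ) g + ∑ᶠ χ ∈ X, (δ χ : ℂ) * (χ : K → ℂ) g = 0) :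
    ∃ (z : c → Fin e → ℤ) (φ : Fin e → K → ℂ),
      (∀ (θ : c) (x : K), ¬ p ∣ orderOf x → (θ : K → ℂ) x = ∑ i, (z θ i : ℂ) * φ i x) ∧
      (∀ i, regPart p (φ i) ∈ Submodule.span ℂ
        ((fun χ : IrrCharacter K => pRegularPart p (χ : K → ℂ)) '' c)) ∧
      ∀ i j, ∑ θ' : c, (z θ' j : ℂ) * z θ' i = (if i = j then 1 else 0) + (Nat.card Y : ℂ) := by
  classical
  have := Core.finite_irr (G := K)
  have : Finite X := inferInstance
  obtain ⟨f⟩ : Nonempty (Fin e ≃ X) := ⟨(Finite.equivFinOfCardEq hX).symm⟩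
  have hXc : ∀ i, ((f i : X) : IrrCharacter K) ∈ c := fun i => by
    rw [hXY]; exact Or.inl (f i).2
  have hYc : ∀ θ ∈ Y, θ ∈ c := fun θ hθ => by
    rw [hXY]; exact Or.inr hθ
  have hne : ∀ (θ : IrrCharacter K), θ ∈ Y → ∀ i, θ ≠ f i := by
    rintro θ hθ i rfl
    exact Set.disjoint_left.1 hdis (f i).2 hθ
  have hδ2 : ∀ i, (δ (f i) : ℂ) * δ (f i) = 1 := by
    intro i
    rcases hδ _ (f i).2 with h | h <;> rw [h] <;> push_cast <;> ring
  have hδ02 : (δ₀ : ℂ) * δ₀ = 1 := by
    rcases hδ₀ with h | h <;> rw [h] <;> push_cast <;> ring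
  have hsum : ∀ g : K, ∑ᶠ χ ∈ X, (δ χ : ℂ) * (χ : K → ℂ) g =
      ∑ i, (δ (f i) : ℂ) * ((f i : X) : K → ℂ) g := by
    intro g
    rw [← finsum_set_coe_eq_finsum_mem, ← finsum_comp_equiv f, finsum_eq_sum_of_fintype]
  refine ⟨fun θ i => (if (θ : IrrCharacter K) = f i then δ (f i) else 0) +
    (if (θ : IrrCharacter K) ∈ Y then -δ₀ else 0),
    fun i x => (δ (f i) : ℂ) * ((f i : X) : K → ℂ) x, ?_, ?_, ?_⟩
  · rintro ⟨θ, hθ⟩ x hx
    by_cases hY : θ ∈ Y
    · have h1 := hrel θ hY x hx
      rw [hsum] at h1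
      have h2 : ∀ i, (((if θ = f i then δ (f i) else 0) + (if θ ∈ Y then -δ₀ else 0) : ℤ) : ℂ) *
          ((δ (f i) : ℂ) * ((f i : X) : K → ℂ) x) =
            -(δ₀ : ℂ) * ((δ (f i) : ℂ) * ((f i : X) : K → ℂ) x) := by
        intro i
        rw [if_neg (hne θ hY i), if_pos hY]
        push_cast
        ring
      simp only [h2]
      rw [← Finset.mul_sum, eq_neg_of_add_eq_zero_right h1]
      linear_combination -(θ : K → ℂ) x * hδ02
    · have hθX : θ ∈ X := by
        rw [hXY] at hθ
        exact hθ.resolve_right hY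
      obtain ⟨i, hi⟩ := f.surjective ⟨θ, hθX⟩
      have hi' : ((f i : X) : IrrCharacter K) = θ := congrArg Subtype.val hi
      rw [Finset.sum_eq_single i]
      · simp only [if_neg hY, hi', if_true]
        have h3 := hδ2 i
        rw [hi'] at h3
        push_cast
        linear_combination -(θ : K → ℂ) x * h3
      · intro j _ hj
        simp only [if_neg hY]
        rw [if_neg]
        · simp
        · intro h
          rw [← hi'] at h
          exact hj (f.injective (Subtype.ext h)).symm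
      · intro h
        exact absurd (Finset.mem_univ _) h
  · intro i
    have h1 : regPart p (fun x => (δ (f i) : ℂ) * ((f i : X) : K → ℂ) x) =
        (δ (f i) : ℂ) • pRegularPart p ((f i : X) : K → ℂ) := by
      rw [pRegularPart_eq_regPart]
      funext x
      rw [Pi.smul_apply]
      by_cases hx : p ∣ orderOf x
      · rw [regPart_of_dvd hx, regPart_of_dvd hx, smul_zero]
      · rw [regPart_of_not_dvd hx, regPart_of_not_dvd hx, smul_eq_mul]
    rw [h1]
    exact Submodule.smul_mem _ _ (Submodule.subset_span ⟨_, hXc i, rfl⟩)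
  · intro i j
    have h1 : ∀ θ' : c, ((((if (θ' : IrrCharacter K) = f j then δ (f j) else 0) +
        (if (θ' : IrrCharacter K) ∈ Y then -δ₀ else 0) : ℤ) : ℂ) *
        (((if (θ' : IrrCharacter K) = f i then δ (f i) else 0) +
        (if (θ' : IrrCharacter K) ∈ Y then -δ₀ else 0) : ℤ) : ℂ)) =
        (if θ' = ⟨f i, hXc i⟩ then (if i = j then (1 : ℂ) else 0) else 0) +
          (if (θ' : IrrCharacter K) ∈ Y then 1 else 0) := by
      intro θ'
      by_cases hY : (θ' : IrrCharacter K) ∈ Y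
      · have e1 : θ' ≠ ⟨f i, hXc i⟩ := fun h => hne _ hY i (congrArg Subtype.val h)
        rw [if_neg (hne _ hY j), if_neg (hne _ hY i), if_pos hY, if_pos hY, if_neg e1]
        push_cast
        linear_combination hδ02
      · rw [if_neg hY, if_neg hY, add_zero, add_zero, add_zero]
        by_cases h2 : θ' = ⟨f i, hXc i⟩
        · have h2' : (θ' : IrrCharacter K) = f i := congrArg Subtype.val h2
          rw [if_pos h2, h2', if_pos rfl]
          by_cases h3 : i = j
          · subst h3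
            rw [if_pos rfl, if_pos rfl]
            exact hδ2 i
          · rw [if_neg h3, if_neg]
            · simp
            · intro h4
              exact h3 (f.injective (Subtype.ext h4))
        · have h2' : (θ' : IrrCharacter K) ≠ f i := fun h => h2 (Subtype.ext h)
          rw [if_neg h2, if_neg h2']
          simp
    rw [Finset.sum_congr rfl fun θ' _ => h1 θ', Finset.sum_add_distrib,
      Finset.sum_ite_eq' Finset.univ (⟨f i, hXc i⟩ : c), if_pos (Finset.mem_univ _),
      Finset.sum_boole]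
    congr 2
    rw [← Fintype.card_subtype, ← Nat.card_eq_fintype_card]
    refine Nat.card_congr ⟨fun t => ⟨t.1.1, t.2⟩, fun t => ⟨⟨t.1, hYc _ t.2⟩, t.2⟩, fun t => rfl,
      fun t => rfl⟩

end dual

section lift

variable {H : Type*} [Group H] [Fintype H] {p : ℕ} [Fact p.Prime] {M : Ideal AlgInt}
  {U : Subgroup H} [U.Normal]

theorem rg_mk [Fintype (H ⧸ U)] (hU : U ≤ Subgroup.center H) (hp : IsPGroup p U)
    (f f' : H ⧸ U → ℂ) :
    (Nat.card U : ℂ) * rg p (fun g : H => f (QuotientGroup.mk g))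
      (fun g : H => f' (QuotientGroup.mk g)) = rg p f f' := by
  classical
  rw [rg_def, rg_def, inv_card_eq, mul_assoc]
  congr 2
  rw [pair_eq_sum_filter, pair_eq_sum_filter, sum_reg_mk hU hp]

theorem rg_smul_left (f g : H → ℂ) (c : ℂ) : rg p (c • f) g = c * rg p f g := by
  rw [rg_def, rg_def, pair_eq_sum_filter, pair_eq_sum_filter, mul_left_comm]
  congr 1
  rw [Finset.mul_sum]
  refine Finset.sum_congr rfl fun x _ => ?_
  rw [Pi.smul_apply, smul_eq_mul, mul_assoc]

theorem rg_smul_right (f g : H → ℂ) (c : ℂ) : rg p f (c • g) = conj c * rg p f g := by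
  rw [← conj_rg, rg_smul_left, map_mul, conj_rg]

end lift

section bound

variable {G : Type*} [Group G] [Fintype G] {p : ℕ} [Fact p.Prime] {M : Ideal AlgInt}

/-- The bound for `k(B)` from a major subsection `(u, b)`, where the block `defl U b` has the
relation of a star with an exceptional vertex. -/
theorem card_le_of_defl (hM : IsPModular p M) {u : G} (hu : ∃ k : ℕ, orderOf u = p ^ k)
    {H : Subgroup G} [Fintype H] (hH : H = Subgroup.centralizer ({u} : Set G))
    {b : Set (IrrCharacter H)} (hb : IsPBlock M b) {B : Set (IrrCharacter G)}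
    (hind : IsInducedBlock M H b B) (hd : blockDefect p b = blockDefect p B)
    {U : Subgroup H} [U.Normal] (hU : U ≤ Subgroup.center H) (hp : IsPGroup p U)
    {X Y : Set (IrrCharacter (H ⧸ U))} (hXY : defl U b = X ∪ Y) (hdis : Disjoint X Y)
    {e : ℕ} (he : 0 < e) (hr : blockRank p (defl U b) = e) (hX : Nat.card X = e)
    {δ : IrrCharacter (H ⧸ U) → ℤ} {δ₀ : ℤ}
    (hδ : ∀ χ ∈ X, δ χ = 1 ∨ δ χ = -1) (hδ₀ : δ₀ = 1 ∨ δ₀ = -1)
    (hrel : ∀ ψ ∈ Y, ∀ g : H ⧸ U, ¬ p ∣ orderOf g →
      (δ₀ : ℂ) * (ψ : H ⧸ U → ℂ) g + ∑ᶠ χ ∈ X, (δ χ : ℂ) * (χ : H ⧸ U → ℂ) g = 0) :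
    Nat.card B ≤ Nat.card U * (Nat.card Y + e) := by
  classical
  have := Fintype.ofFinite (H ⧸ U)
  have := Core.finite_irr (G := H)
  have := Core.finite_irr (G := H ⧸ U)
  have : Fintype b := Fintype.ofFinite b
  have : Fintype (defl U b) := Fintype.ofFinite (defl U b)
  have hU0 : (Nat.card U : ℂ) ≠ 0 := by exact_mod_cast Nat.card_pos.ne'
  have hc := isPBlock_defl hM hU hp hb
  obtain ⟨z', φ', hz', hφ', hsum⟩ := exists_decomp (p := p) hXY hdis hX hδ hδ₀ hrel
  choose m hm using fun ξ : b => exists_int_defl hM hU hp hb ξ.2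
  let F : Fin e → H ⧸ U → ℂ := fun i => ∑ θ : defl U b, (z' θ i : ℂ) • (θ : H ⧸ U → ℂ)
  let a : Fin e → b → ℂ := fun i η => (Nat.card U : ℂ) *
    ∑ θ : defl U b, if infl U (θ : IrrCharacter (H ⧸ U)) = η then (z' θ i : ℂ) else 0
  have hcomb : ∀ i, ∑ η : b, a i η • ((η : IrrCharacter H) : H → ℂ) =
      (Nat.card U : ℂ) • fun g : H => F i (QuotientGroup.mk g) := by
    intro i
    funext g
    rw [Finset.sum_apply, Pi.smul_apply, smul_eq_mul]
    have h0 : F i (QuotientGroup.mk g) =
      ∑ θ : defl U b, (z' θ i : ℂ) * (θ : H ⧸ U → ℂ) (QuotientGroup.mk g) := by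
      change (∑ θ : defl U b, (z' θ i : ℂ) • (θ : H ⧸ U → ℂ)) (QuotientGroup.mk g) = _
      rw [Finset.sum_apply]
      rfl
    rw [h0, Finset.mul_sum]
    have h1 : ∀ η : b, (a i η • ((η : IrrCharacter H) : H → ℂ)) g =
        ∑ θ : defl U b, if (⟨infl U (θ : IrrCharacter (H ⧸ U)), θ.2⟩ : b) = η then
          (Nat.card U : ℂ) * ((z' θ i : ℂ) * (η : H → ℂ) g) else 0 := by
      intro η
      rw [Pi.smul_apply, smul_eq_mul]
      change (Nat.card U : ℂ) * _ * _ = _
      rw [Finset.mul_sum, Finset.sum_mul]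
      refine Finset.sum_congr rfl fun θ _ => ?_
      by_cases h2 : infl U (θ : IrrCharacter (H ⧸ U)) = η
      · rw [if_pos h2, if_pos (Subtype.ext h2)]
        ring
      · rw [if_neg h2, if_neg (fun h3 => h2 (congrArg Subtype.val h3))]
        ring
    rw [Finset.sum_congr rfl fun η _ => h1 η, Finset.sum_comm]
    refine Finset.sum_congr rfl fun θ _ => ?_
    rw [Finset.sum_ite_eq Finset.univ, if_pos (Finset.mem_univ _)]
    rfl
  have hcard : (Nat.card B : ℝ) ≤ (Nat.card U : ℝ) * ((Nat.card Y : ℝ) + e) := by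
    refine card_le_of_dual hM hu hH hind hd he a
      (fun ξ i => ∑ θ : defl U b, m ξ θ * z' θ i)
      (fun i g => φ' i (QuotientGroup.mk g)) (Nat.card U) (Nat.card Y) ?_ ?_ ?_
    · intro ξ i
      rw [hcomb, rg_smul_right, Complex.conj_natCast]
      have h1 : rg p ((ξ : IrrCharacter H) : H → ℂ) (fun g : H => F i (QuotientGroup.mk g)) =
          rg p (∑ θ : defl U b, (m ξ θ : ℂ) • (infl U (θ : IrrCharacter (H ⧸ U)) : H → ℂ))
            (fun g : H => F i (QuotientGroup.mk g)) := by
        refine rg_congr_left p _ fun c hc => ?_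
        rw [hm ξ c hc, Finset.sum_apply]
        rfl
      rw [h1, rg_sum_smul_left, Finset.mul_sum]
      push_cast
      refine Finset.sum_congr rfl fun θ _ => ?_
      rw [mul_left_comm]
      congr 1
      have h2 := rg_mk (p := p) hU hp (θ : H ⧸ U → ℂ) (F i)
      rw [rg_dual hM hc hr z' φ' hz' hφ'] at h2
      exact h2
    · intro ξ g hg
      rw [hm ξ g hg]
      have h1 : ∀ θ : defl U b, (m ξ θ : ℂ) * (infl U (θ : IrrCharacter (H ⧸ U)) : H → ℂ) g =
          ∑ i, (m ξ θ : ℂ) * ((z' θ i : ℂ) * φ' i (QuotientGroup.mk g)) := by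
        intro θ
        rw [← Finset.mul_sum, ← hz' θ _ (not_dvd_orderOf_mk hg)]
        rfl
      rw [Finset.sum_congr rfl fun θ _ => h1 θ, Finset.sum_comm]
      refine Finset.sum_congr rfl fun i _ => ?_
      push_cast
      rw [Finset.sum_mul]
      refine Finset.sum_congr rfl fun θ _ => ?_
      ring
    · intro i j
      rw [hcomb, hcomb, rg_smul_right, rg_smul_left, rg_mk hU hp, Complex.conj_natCast]
      have h2 := rg_dual_dual hM hc hr z' φ' hz' hφ' i j
      rw [hsum] at h2
      change (Nat.card U : ℂ) * rg p (F j) (F i) = _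
      change rg p (F j) (F i) = _ at h2
      rw [h2]
      push_cast
      by_cases hij : i = j
      · simp [hij]
      · simp [hij]
  exact_mod_cast hcard

end bound

end Cfsg.Agent.H658
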