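import Cfsg.Agent.H658.CountLe
import Cfsg.Agent.H658.MajorVal
import Cfsg.Agent.Blocks.GaloisConj

/-!
# The quadratic form bound for the number of characters of a block

`(u, b)` is a major subsection of `B`, `F i` (`i : Fin e`) combinations of members of `b`, "dual" to
functions `φ i` on the `p`-regular elements, with integral products with the members of `b` and
`rg (F i) (F j) = w * (δ_ij + m)`. Then `k(B) ≤ w * (m + e)`.
-/

set_option autoImplicit false
set_option linter.unusedSectionVars false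

open Cfsg
open scoped ComplexConjugate

namespace Cfsg.Agent.H658

open Cfsg.Agent.Blocks.Local Cfsg.Agent.Characters Cfsg.Agent.Blocks.Blau
open Cfsg.Agent.H613.RegGram Cfsg.Agent.H613.Contrib Cfsg.Agent.H613.ContribVal

section bilinear

variable {K : Type*} [Group K] [Fintype K]

theorem rg_congr_left (p : ℕ) {f f' : K → ℂ} (g : K → ℂ) (h : ∀ c, ¬ p ∣ orderOf c → f c = f' c) :
    rg p f g = rg p f' g := by
  classical
  rw [rg_def, rg_def, pair_eq_sum_filter, pair_eq_sum_filter]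
  congr 1
  refine Finset.sum_congr rfl fun c hc => ?_
  rw [h c (Finset.mem_filter.1 hc).2]

theorem rg_congr_right (p : ℕ) (f : K → ℂ) {g g' : K → ℂ} (h : ∀ c, ¬ p ∣ orderOf c → g c = g' c) :
    rg p f g = rg p f g' := by
  rw [← conj_rg, rg_congr_left p f h, conj_rg]

theorem rg_comb_right (p : ℕ) (f : K → ℂ) {ι : Type*} (s : Finset ι) (a : ι → ℂ) (g : ι → K → ℂ) :
    rg p f (∑ i ∈ s, a i • g i) = ∑ i ∈ s, conj (a i) * rg p f (g i) := by
  rw [← conj_rg, rg_sum_smul_left, map_sum]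
  refine Finset.sum_congr rfl fun i _ => ?_
  rw [map_mul, conj_rg]

end bilinear

section steps

/-- The sequence `x` shifted by one and extended by zeros. -/
def ext0 {A : Type*} [Zero A] {e : ℕ} (x : Fin e → A) (i : ℕ) : A :=
  if h : 0 < i ∧ i ≤ e then x ⟨i - 1, by omega⟩ else 0

theorem ext0_zero {A : Type*} [Zero A] {e : ℕ} (x : Fin e → A) : ext0 x 0 = 0 := by
  unfold ext0
  rw [dif_neg (by omega)]

theorem ext0_last {A : Type*} [Zero A] {e : ℕ} (x : Fin e → A) : ext0 x (e + 1) = 0 := by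
  unfold ext0
  rw [dif_neg (by omega)]

theorem ext0_succ {A : Type*} [Zero A] {e : ℕ} (x : Fin e → A) (i : Fin e) :
    ext0 x (i + 1) = x i := by
  unfold ext0
  rw [dif_pos ⟨by omega, by omega⟩]
  congr 1

theorem ext0_sum {ι : Type*} (s : Finset ι) {e : ℕ} (c : ι → Fin e → ℤ) (y : ι → ℂ) (k : ℕ) :
    ext0 (fun i => ∑ j ∈ s, (c j i : ℂ) * y j) k = ∑ j ∈ s, ((ext0 (c j) k : ℤ) : ℂ) * y j := by
  unfold ext0
  split_ifs
  · rfl
  · simp

/-- A nonzero closed path has at least two nonzero steps. -/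
theorem two_le_card_steps {e : ℕ} (x : Fin e → ℂ) (hx : ∃ i, x i ≠ 0) :
    2 ≤ Nat.card {i : Fin (e + 1) // ext0 x (i + 1) - ext0 x i ≠ 0} := by
  classical
  by_contra hlt
  have hcard : Nat.card {i : Fin (e + 1) // ext0 x (i + 1) - ext0 x i ≠ 0} ≤ 1 := by omega
  rw [Nat.card_eq_fintype_card, Fintype.card_le_one_iff] at hcard
  -- the sum of the steps is zero
  have hsum : ∑ i : Fin (e + 1), (ext0 x (i + 1) - ext0 x i) = 0 := by
    rw [Fin.sum_univ_eq_sum_range (fun i => ext0 x (i + 1) - ext0 x i) (e + 1),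
      Finset.sum_range_sub, ext0_zero, ext0_last, sub_zero]
  -- all steps are zero
  have hall : ∀ i : Fin (e + 1), ext0 x (i + 1) - ext0 x i = 0 := by
    intro i
    by_contra hi
    rw [Finset.sum_eq_single i] at hsum
    · exact hi hsum
    · intro j _ hj
      by_contra hj0
      exact hj (congrArg Subtype.val (hcard ⟨j, hj0⟩ ⟨i, hi⟩))
    · intro h
      exact absurd (Finset.mem_univ _) h
  have hzero : ∀ i : ℕ, i ≤ e + 1 → ext0 x i = 0 := by
    intro i
    induction i with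
    | zero => intro _; exact ext0_zero x
    | succ i ih =>
      intro hi
      have h1 := hall ⟨i, by omega⟩
      have h2 := ih (by omega)
      simp only at h1
      rw [h2, sub_zero] at h1
      exact h1
  obtain ⟨i, hi⟩ := hx
  apply hi
  rw [← ext0_succ x i]
  exact hzero _ (by omega)

/-- The sum of the squares of the steps. -/
theorem sum_steps_sq {e : ℕ} (he : 0 < e) {B : Type*} [Fintype B] (x : B → Fin e → ℂ) (w m : ℝ)
    (h : ∀ i j, ∑ χ, x χ i * conj (x χ j) = ((w * ((if i = j then 1 else 0) + m) : ℝ) : ℂ)) :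
    ∑ χ, ∑ i : Fin (e + 1), ‖ext0 (x χ) (i + 1) - ext0 (x χ) i‖ ^ 2 = 2 * (w * (m + e)) := by
  obtain ⟨e, rfl⟩ : ∃ e', e = e' + 1 := ⟨e - 1, by omega⟩
  have hn : ∀ i, ∑ χ, ‖x χ i‖ ^ 2 = w * (1 + m) := by
    intro i
    have h1 := h i i
    rw [if_pos rfl] at h1
    have h2 : ((∑ χ, ‖x χ i‖ ^ 2 : ℝ) : ℂ) = ((w * (1 + m) : ℝ) : ℂ) := by
      rw [← h1]
      push_cast
      refine Finset.sum_congr rfl fun χ _ => ?_
      rw [Complex.mul_conj, Complex.normSq_eq_norm_sq]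
      push_cast
      rfl
    exact_mod_cast h2
  have hd : ∀ i j, i ≠ j → ∑ χ, ‖x χ i - x χ j‖ ^ 2 = 2 * w := by
    intro i j hij
    have h1 := h i i
    have h2 := h i j
    have h3 := h j i
    have h4 := h j j
    rw [if_pos rfl] at h1 h4
    rw [if_neg hij] at h2
    rw [if_neg (Ne.symm hij)] at h3
    have h5 : ((∑ χ, ‖x χ i - x χ j‖ ^ 2 : ℝ) : ℂ) = ((2 * w : ℝ) : ℂ) := by
      push_cast
      have h6 : ∀ χ, ((‖x χ i - x χ j‖ : ℂ)) ^ 2 = x χ i * conj (x χ i) - x χ i * conj (x χ j) -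
          x χ j * conj (x χ i) + x χ j * conj (x χ j) := by
        intro χ
        have h7 : ((‖x χ i - x χ j‖ : ℂ)) ^ 2 = (x χ i - x χ j) * conj (x χ i - x χ j) := by
          rw [Complex.mul_conj, Complex.normSq_eq_norm_sq]
          push_cast
          rfl
        rw [h7, map_sub]
        ring
      rw [Finset.sum_congr rfl fun χ _ => h6 χ, Finset.sum_add_distrib, Finset.sum_sub_distrib,
        Finset.sum_sub_distrib, h1, h2, h3, h4]
      push_cast
      ring
    exact_mod_cast h5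
  rw [Finset.sum_comm, Fin.sum_univ_succ, Fin.sum_univ_castSucc]
  have hfirst : ∑ χ, ‖ext0 (x χ) ((0 : Fin (e + 1 + 1)) + 1) -
      ext0 (x χ) (0 : Fin (e + 1 + 1))‖ ^ 2 = w * (1 + m) := by
    rw [← hn 0]
    refine Finset.sum_congr rfl fun χ _ => ?_
    have h1 : ext0 (x χ) (((0 : Fin (e + 1 + 1)) : ℕ) + 1) = x χ 0 := ext0_succ (x χ) 0
    have h2 : ext0 (x χ) ((0 : Fin (e + 1 + 1)) : ℕ) = 0 := ext0_zero (x χ)
    rw [h1, h2, sub_zero]
  have hlast : ∑ χ, ‖ext0 (x χ) (((Fin.last e).succ : Fin (e + 1 + 1)) + 1) -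
      ext0 (x χ) ((Fin.last e).succ : Fin (e + 1 + 1))‖ ^ 2 = w * (1 + m) := by
    rw [← hn (Fin.last e)]
    refine Finset.sum_congr rfl fun χ _ => ?_
    have h1 : ext0 (x χ) (((Fin.last e).succ : Fin (e + 1 + 1)) + 1) = 0 := ext0_last (x χ)
    have h2 : ext0 (x χ) (((Fin.last e).succ : Fin (e + 1 + 1)) : ℕ) = x χ (Fin.last e) :=
      ext0_succ (x χ) (Fin.last e)
    rw [h1, h2, zero_sub, norm_neg]
  have hmid : ∀ i : Fin e, ∑ χ, ‖ext0 (x χ) (((Fin.castSucc i).succ : Fin (e + 1 + 1)) + 1) -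
      ext0 (x χ) ((Fin.castSucc i).succ : Fin (e + 1 + 1))‖ ^ 2 = 2 * w := by
    intro i
    rw [← hd i.succ (Fin.castSucc i) (by
      intro h
      have := congrArg Fin.val h
      simp at this)]
    refine Finset.sum_congr rfl fun χ _ => ?_
    have h1 : ext0 (x χ) (((Fin.castSucc i).succ : Fin (e + 1 + 1)) + 1) = x χ i.succ :=
      ext0_succ (x χ) i.succ
    have h2 : ext0 (x χ) (((Fin.castSucc i).succ : Fin (e + 1 + 1)) : ℕ) = x χ (Fin.castSucc i) :=
      ext0_succ (x χ) (Fin.castSucc i)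
    rw [h1, h2]
  rw [hfirst, hlast, Finset.sum_congr rfl fun i _ => hmid i, Finset.sum_const, Finset.card_univ,
    Fintype.card_fin, nsmul_eq_mul]
  push_cast
  ring

end steps

section main

variable {G : Type*} [Group G] [Fintype G] {p : ℕ} [Fact p.Prime] {M : Ideal AlgInt}

/-- The column relations for combinations of members of `b`. -/
theorem sum_wt_comb (hM : IsPModular p M) {u : G} (hu : ∃ k : ℕ, orderOf u = p ^ k)
    {H : Subgroup G} [Fintype H] (hH : H = Subgroup.centralizer ({u} : Set G))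
    {b : Set (IrrCharacter H)} [Fintype b] {B : Set (IrrCharacter G)} [Fintype B]
    (hind : IsInducedBlock M H b B) (a a' : b → ℂ) :
    ∑ ψ : B, wt p u (ψ : G → ℂ) (∑ η, a η • (η : H → ℂ)) *
        conj (wt p u (ψ : G → ℂ) (∑ η, a' η • (η : H → ℂ))) =
      rg p (∑ η, a' η • (η : H → ℂ)) (∑ η, a η • (η : H → ℂ)) := by
  have h1 : ∀ ψ : B, wt p u (ψ : G → ℂ) (∑ η, a η • (η : H → ℂ)) *
        conj (wt p u (ψ : G → ℂ) (∑ η, a' η • (η : H → ℂ))) =
      ∑ η : b, ∑ η' : b, conj (a η) * a' η' * (wt p u (ψ : G → ℂ) (η : H → ℂ) *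
        conj (wt p u (ψ : G → ℂ) (η' : H → ℂ))) := by
    intro ψ
    rw [wt_def, wt_def, rg_comb_right, rg_comb_right, map_sum, Finset.sum_mul_sum]
    refine Finset.sum_congr rfl fun η _ => Finset.sum_congr rfl fun η' _ => ?_
    rw [map_mul, Complex.conj_conj, wt_def, wt_def]
    ring
  rw [Finset.sum_congr rfl fun ψ _ => h1 ψ, Finset.sum_comm, rg_comb_right]
  refine Finset.sum_congr rfl fun η _ => ?_
  rw [Finset.sum_comm, rg_sum_smul_left, Finset.mul_sum]
  refine Finset.sum_congr rfl fun η' _ => ?_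
  rw [← Finset.mul_sum, sum_wt_mul_conj_wt hM hu hH hind η.2 η'.2]
  ring

theorem wt_comb_eq_sum (hM : IsPModular p M) {u : G} {H : Subgroup G} [Fintype H]
    [Fintype (IrrCharacter H)] {q : ℕ} {n : IrrCharacter G → IrrCharacter H → ℕ}
    {ε : IrrCharacter H → ℂ} (hE : Exp u H q n ε) {b : Set (IrrCharacter H)} [Fintype b]
    (hb : IsPBlock M b) (ψ : IrrCharacter G) (k : ℕ) (a : b → ℂ) :
    wt p (u ^ k) (ψ : G → ℂ) (∑ η, a η • (η : H → ℂ)) =
      ∑ ξ : b, (n ψ ξ : ℂ) * ε ξ ^ k * rg p (ξ : H → ℂ) (∑ η, a η • (η : H → ℂ)) := by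
  rw [wt_def, rg_comb_right]
  have h1 : ∀ η : b, conj (a η) * rg p (fun c : H => (ψ : G → ℂ) (u ^ k * (c : G))) (η : H → ℂ) =
      ∑ ξ : b, (n ψ ξ : ℂ) * ε ξ ^ k * (conj (a η) * rg p (ξ : H → ℂ) (η : H → ℂ)) := by
    intro η
    rw [← wt_def, wt_eq_sum hM hE hb ψ k η.2, Finset.mul_sum]
    exact Finset.sum_congr rfl fun ξ _ => by ring
  rw [Finset.sum_congr rfl fun η _ => h1 η, Finset.sum_comm]
  refine Finset.sum_congr rfl fun ξ _ => ?_
  rw [← Finset.mul_sum, ← rg_comb_right]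

/-- **The quadratic form bound.** -/
theorem card_le_of_dual (hM : IsPModular p M) {u : G} (hu : ∃ k : ℕ, orderOf u = p ^ k)
    {H : Subgroup G} [Fintype H] (hH : H = Subgroup.centralizer ({u} : Set G))
    {b : Set (IrrCharacter H)} [Fintype b] {B : Set (IrrCharacter G)}
    (hind : IsInducedBlock M H b B) (hd : blockDefect p b = blockDefect p B)
    {e : ℕ} (he : 0 < e) (a : Fin e → b → ℂ) (z : b → Fin e → ℤ) (φ : Fin e → H → ℂ) (w m : ℝ)
    (h1 : ∀ (ξ : b) (i : Fin e), rg p (ξ : H → ℂ) (∑ η, a i η • (η : H → ℂ)) = z ξ i)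
    (h2 : ∀ (ξ : b) (c : H), ¬ p ∣ orderOf c → (ξ : H → ℂ) c = ∑ i, (z ξ i : ℂ) * φ i c)
    (h3 : ∀ i j, rg p (∑ η, a j η • (η : H → ℂ)) (∑ η, a i η • (η : H → ℂ)) =
      ((w * ((if i = j then 1 else 0) + m) : ℝ) : ℂ)) :
    (Nat.card B : ℝ) ≤ w * (m + e) := by
  classical
  have hpp : p.Prime := Fact.out
  have := Core.finite_irr (G := H)
  have := Fintype.ofFinite (IrrCharacter H)
  have := Core.finite_irr (G := G)
  have := Fintype.ofFinite (IrrCharacter G)
  have : Fintype B := Fintype.ofFinite B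
  obtain ⟨j, hj⟩ := hu
  have hq0 : p ^ j ≠ 0 := pow_ne_zero _ hpp.ne_zero
  have huq : u ^ p ^ j = 1 := by rw [← hj]; exact pow_orderOf_eq_one u
  obtain ⟨n, ε, hE⟩ := exists_exp hH (q := p ^ j) huq
  have hcen : ∀ k : ℕ, k.Coprime (p ^ j) → H = Subgroup.centralizer ({u ^ k} : Set G) := by
    intro k hk
    rw [Cfsg.Agent.Blocks.GaloisConj.centralizer_pow_eq huq hk]
    exact hH
  have hord : ∀ k : ℕ, ∃ i : ℕ, orderOf (u ^ k) = p ^ i := by
    intro k
    have h1 : orderOf (u ^ k) ∣ p ^ j := by rw [← hj]; exact orderOf_pow_dvd k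
    obtain ⟨i, -, hi⟩ := (Nat.dvd_prime_pow hpp).1 h1
    exact ⟨i, hi⟩
  let x : ℕ → B → Fin e → ℂ := fun k χ i =>
    wt p (u ^ k) ((χ : IrrCharacter G) : G → ℂ) (∑ η, a i η • (η : H → ℂ))
  have hx : ∀ k χ i, x k χ i = ∑ ξ : b, (((n χ ξ : ℤ) * z ξ i : ℤ) : ℂ) * ε ξ ^ k := by
    intro k χ i
    change wt p (u ^ k) _ _ = _
    rw [wt_comb_eq_sum hM hE hind.1]
    refine Finset.sum_congr rfl fun ξ _ => ?_
    rw [h1]
    push_cast
    ring
  let c : B × Fin (e + 1) → b → ℤ := fun s ξ =>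
    ext0 (fun i => (n s.1 ξ : ℤ) * z ξ i) (s.2 + 1) - ext0 (fun i => (n s.1 ξ : ℤ) * z ξ i) s.2
  have hc : ∀ k (s : B × Fin (e + 1)), ∑ ξ : b, (c s ξ : ℂ) * ε ξ ^ k =
      ext0 (x k s.1) (s.2 + 1) - ext0 (x k s.1) s.2 := by
    rintro k ⟨χ, i⟩
    have h4 : x k χ = fun i => ∑ ξ : b, (((n χ ξ : ℤ) * z ξ i : ℤ) : ℂ) * ε ξ ^ k :=
      funext fun i => hx k χ i
    dsimp only
    rw [h4, ext0_sum Finset.univ (fun (ξ : b) (i : Fin e) => (n χ ξ : ℤ) * z ξ i)
      (fun ξ => ε ξ ^ k), ext0_sum Finset.univ (fun (ξ : b) (i : Fin e) => (n χ ξ : ℤ) * z ξ i)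
      (fun ξ => ε ξ ^ k), ← Finset.sum_sub_distrib]
    refine Finset.sum_congr rfl fun ξ _ => ?_
    simp only [c]
    push_cast
    ring
  -- nonvanishing
  have hne : ∀ k : ℕ, k.Coprime (p ^ j) → ∀ χ : B, ∃ i, x k χ i ≠ 0 := by
    intro k hk χ
    by_contra hno
    push Not at hno
    apply contr_self_ne_zero hM (hord k) (hcen k hk) hind hd χ.2
    rw [contr_def]
    refine Finset.sum_eq_zero fun η _ => ?_
    have h4 : wt p (u ^ k) ((χ : IrrCharacter G) : G → ℂ) (η : H → ℂ) = 0 := by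
      rw [wt_eq_sum hM hE hind.1 χ k η.2]
      have h5 : ∀ ξ : b, (n χ ξ : ℂ) * ε ξ ^ k * rg p (ξ : H → ℂ) (η : H → ℂ) =
          ∑ i, (((n χ ξ : ℤ) * z ξ i : ℤ) : ℂ) * ε ξ ^ k * rg p (φ i) (η : H → ℂ) := by
        intro ξ
        have h6 : rg p (ξ : H → ℂ) (η : H → ℂ) = ∑ i, (z ξ i : ℂ) * rg p (φ i) (η : H → ℂ) := by
          rw [← rg_sum_smul_left]
          refine rg_congr_left p _ fun y hy => ?_
          rw [h2 ξ y hy, Finset.sum_apply]
          rfl
        rw [h6, Finset.mul_sum]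
        refine Finset.sum_congr rfl fun i _ => ?_
        push_cast
        ring
      rw [Finset.sum_congr rfl fun ξ _ => h5 ξ, Finset.sum_comm]
      refine Finset.sum_eq_zero fun i _ => ?_
      rw [← Finset.sum_mul, ← hx, hno i, zero_mul]
    rw [h4, zero_mul]
  have hmain := count_le hq0 (fun ξ : b => ε ξ) (fun ξ => hE.root ξ) c (2 * (w * (m + e)))
    (2 * Nat.card B) (by
      intro k hk
      rw [← sum_steps_sq he (x k) w m (fun i i' => by
        change ∑ χ : B, wt p (u ^ k) _ _ * conj (wt p (u ^ k) _ _) = _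
        rw [sum_wt_comb hM (hord k) (hcen k hk) hind, h3]), Fintype.sum_prod_type]
      refine le_of_eq (Finset.sum_congr rfl fun χ _ => Finset.sum_congr rfl fun i _ => ?_)
      rw [hc k (χ, i)]) (by
      intro k hk
      simp only [hc k]
      have e1 : Nat.card {s : B × Fin (e + 1) // ext0 (x k s.1) (s.2 + 1) - ext0 (x k s.1) s.2 ≠ 0} =
          ∑ χ : B, Nat.card {i : Fin (e + 1) // ext0 (x k χ) (i + 1) - ext0 (x k χ) i ≠ 0} := by
        let f : {s : B × Fin (e + 1) // ext0 (x k s.1) (s.2 + 1) - ext0 (x k s.1) s.2 ≠ 0} ≃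
            (χ : B) × {i : Fin (e + 1) // ext0 (x k χ) (i + 1) - ext0 (x k χ) i ≠ 0} :=
          { toFun := fun i => ⟨i.1.1, i.1.2, i.2⟩
            invFun := fun i => ⟨(i.1, i.2.1), i.2.2⟩
            left_inv := fun i => rfl
            right_inv := fun i => rfl }
        rw [Nat.card_congr f, Nat.card_eq_fintype_card, Fintype.card_sigma]
        exact Finset.sum_congr rfl fun χ _ => (Nat.card_eq_fintype_card).symm
      rw [e1]
      have e2 : ∑ χ : B, 2 ≤
          ∑ χ : B, Nat.card {i : Fin (e + 1) // ext0 (x k χ) (i + 1) - ext0 (x k χ) i ≠ 0} :=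
        Finset.sum_le_sum fun χ _ => two_le_card_steps (x k χ) (hne k hk χ)
      rw [Finset.sum_const, Finset.card_univ, smul_eq_mul, ← Nat.card_eq_fintype_card,
        mul_comm] at e2
      exact e2)
  push_cast at hmain
  linarith

end main

end Cfsg.Agent.H658
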