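import Cfsg.Agent.H658.CyclicPattern
import Cfsg.Agent.S0973
import Cfsg.Agent.H658.TwoGen
import Cfsg.Agent.H658.CountMajor
import Cfsg.Agent.S4733

/-!
# Blocks with an abelian defect group with two or three generators
-/

set_option autoImplicit false
set_option linter.unusedSectionVars false

open Cfsg
open scoped ComplexConjugate

namespace Cfsg.Agent.H658

open Cfsg.Agent.Blocks.Local Cfsg.Agent.Characters
open Cfsg.Agent.H644.CentralQuot

universe u

variable {G : Type u} [Group G] [Finite G] {p : ℕ} [Fact p.Prime] {M : Ideal AlgInt}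

/-- The major subsection of an element `x` of the abelian defect group `D` and its quotient
modulo `⟨x⟩`. -/
theorem exists_major_defl (hM : IsPModular p M) {B : Set (IrrCharacter G)} (hB : IsPBlock M B)
    {D : Subgroup G} (hBD : IsDefectGroup p M B D) (hab : IsMulCommutative D) {x : G}
    (hx : x ∈ D) :
    ∃ (f : Set (IrrCharacter (Subgroup.centralizer ({x} : Set G))))
      (U : Subgroup (Subgroup.centralizer ({x} : Set G))) (_ : U.Normal),
      IsInducedBlock M (Subgroup.centralizer ({x} : Set G)) f B ∧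
      blockDefect p f = blockDefect p B ∧
      U = Subgroup.zpowers ⟨x, Subgroup.mem_centralizer_singleton_iff.2 rfl⟩ ∧
      U ≤ Subgroup.center _ ∧ IsPGroup p U ∧ Nat.card U = orderOf x ∧
      U ≤ D.subgroupOf (Subgroup.centralizer ({x} : Set G)) ∧
      IsDefectGroup p M (defl U f)
        ((D.subgroupOf (Subgroup.centralizer ({x} : Set G))).map (QuotientGroup.mk' U)) := by
  have hDp : IsPGroup p D := Cfsg.Agent.Blocks.Basic.isPGroup_of_isDefectGroup hBD
  have hcomm : ∀ w ∈ D, x * w = w * x := by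
    intro w hw
    exact congrArg Subtype.val (mul_comm' (⟨x, hx⟩ : D) (⟨w, hw⟩ : D))
  obtain ⟨b, -, hb⟩ := (S0973.result p M hM B hB D hBD).1
  obtain ⟨f, -, hf, hfD, hfd⟩ := exists_major hM hBD hx hcomm hb
  let x' : Subgroup.centralizer ({x} : Set G) := ⟨x, Subgroup.mem_centralizer_singleton_iff.2 rfl⟩
  have hU : Subgroup.zpowers x' ≤ Subgroup.center _ := by
    rw [Subgroup.zpowers_le, Subgroup.mem_center_iff]
    intro g
    exact Subtype.ext (Subgroup.mem_centralizer_singleton_iff.1 g.2)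
  have hUn : (Subgroup.zpowers x').Normal := normal_of_le_center'' hU
  have hx'D : Subgroup.zpowers x' ≤ D.subgroupOf (Subgroup.centralizer ({x} : Set G)) := by
    rw [Subgroup.zpowers_le, Subgroup.mem_subgroupOf]
    exact hx
  have hp : IsPGroup p (Subgroup.zpowers x') :=
    (hDp.comap_of_injective _ (Subgroup.subtype_injective _)).to_le hx'D
  refine ⟨f, Subgroup.zpowers x', hUn, hf, hfd, rfl, hU, hp, ?_, hx'D, ?_⟩
  · rw [Nat.card_zpowers, ← Subgroup.orderOf_coe]
  · exact (isDefectGroup_defl hM hU hp hf.1 hfD).2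

/-- `k(B) ≤ |D|` for an abelian defect group `D` with two generators. -/
theorem card_le_of_closure_pair (hpat : CyclicPattern.{u} p M) (hM : IsPModular p M) {B : Set (IrrCharacter G)}
    (hB : IsPBlock M B) {D : Subgroup G} (hBD : IsDefectGroup p M B D)
    (hab : IsMulCommutative D) {x y : G} (hxy : D = Subgroup.closure {x, y})
    (hne : D ≠ Subgroup.zpowers x) : Nat.card B ≤ Nat.card D := by
  have hpp : p.Prime := Fact.out
  have := Fintype.ofFinite G
  have hDp : IsPGroup p D := Cfsg.Agent.Blocks.Basic.isPGroup_of_isDefectGroup hBD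
  have hx : x ∈ D := by rw [hxy]; exact Subgroup.subset_closure (by simp)
  have hy : y ∈ D := by rw [hxy]; exact Subgroup.subset_closure (by simp)
  have hcomm : ∀ w ∈ D, w * x = x * w := by
    intro w hw
    exact congrArg Subtype.val (mul_comm' (⟨w, hw⟩ : D) (⟨x, hx⟩ : D))
  obtain ⟨f, U, hUn, hf, hfd, hUx, hU, hp, hUc, hUD, hfD⟩ := exists_major_defl hM hB hBD hab hx
  have := Fintype.ofFinite (Subgroup.centralizer ({x} : Set G))
  have hDH : D ≤ Subgroup.centralizer ({x} : Set G) := fun w hw =>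
    Subgroup.mem_centralizer_singleton_iff.2 (hcomm w hw)
  have h1 : D.subgroupOf (Subgroup.centralizer ({x} : Set G)) = Subgroup.closure
      {⟨x, Subgroup.mem_centralizer_singleton_iff.2 rfl⟩, ⟨y, hDH hy⟩} :=
    subgroupOf_closure hxy hDH (by rw [Set.image_pair])
  have h2 : (D.subgroupOf (Subgroup.centralizer ({x} : Set G))).map (QuotientGroup.mk' U) =
      Subgroup.zpowers (QuotientGroup.mk' U ⟨y, hDH hy⟩) := by
    rw [h1, map_closure_pair hUx]
  have hcyc : IsCyclic ((D.subgroupOf (Subgroup.centralizer ({x} : Set G))).map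
      (QuotientGroup.mk' U)) := by
    rw [h2]
    infer_instance
  have hcard := card_map_mk hUD
  have hDcard : Nat.card (D.subgroupOf (Subgroup.centralizer ({x} : Set G))) = Nat.card D :=
    Nat.card_congr (Subgroup.subgroupOfEquivOfLe hDH).toEquiv
  rw [hDcard] at hcard
  obtain ⟨d, hd⟩ := IsPGroup.iff_card.1 hDp
  obtain ⟨a, -, ha⟩ := (Nat.dvd_prime_pow hpp).1 (by
    rw [← hd]
    exact Dvd.intro _ hcard : Nat.card ((D.subgroupOf (Subgroup.centralizer
      ({x} : Set G))).map (QuotientGroup.mk' U)) ∣ p ^ d)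
  have ha1 : 1 ≤ a := by
    by_contra h
    have h0 : a = 0 := by omega
    rw [ha, h0, pow_zero, one_mul, hUc, ← Nat.card_zpowers] at hcard
    apply hne
    symm
    refine Subgroup.eq_of_le_of_card_ge (Subgroup.zpowers_le.2 hx) hcard.ge
  obtain ⟨e, X, Y, δ, δ₀, he, hYe, hr, hXY, hdis, hX, hδ, hδ₀, hrel⟩ :=
    hpat _ _ hcyc a ha1 ha _ (isPBlock_defl hM hU hp hf.1) hfD
  have hup : ∃ k : ℕ, orderOf x = p ^ k := by
    obtain ⟨k, hk⟩ := IsPGroup.iff_orderOf.1 hDp ⟨x, hx⟩
    exact ⟨k, by rw [← hk, Subgroup.orderOf_mk]⟩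
  have h3 := card_le_of_defl hM hup rfl hf.1 hf hfd hU hp hXY hdis he hr hX hδ hδ₀ hrel
  calc Nat.card B ≤ Nat.card U * (Nat.card Y + e) := h3
    _ ≤ Nat.card U * p ^ a := Nat.mul_le_mul_left _ hYe
    _ = Nat.card D := by rw [← hcard, ha, mul_comm]

/-- `k(B) ^ 3 ≤ |D| ^ 5` for an abelian defect group `D` with three generators. -/
theorem card_cube_le_of_closure_triple (hpat : CyclicPattern.{u} p M) (hM : IsPModular p M) {B : Set (IrrCharacter G)}
    (hB : IsPBlock M B) {D : Subgroup G} (hBD : IsDefectGroup p M B D)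
    (hab : IsMulCommutative D) {x y z : G} (hxyz : D = Subgroup.closure {x, y, z})
    (hne : z ∉ Subgroup.closure {x, y}) (hcard : Nat.card D ≤ orderOf x ^ 3) :
    Nat.card B ^ 3 ≤ Nat.card D ^ 5 := by
  have hpp : p.Prime := Fact.out
  have := Fintype.ofFinite G
  have hDp : IsPGroup p D := Cfsg.Agent.Blocks.Basic.isPGroup_of_isDefectGroup hBD
  have hx : x ∈ D := by rw [hxyz]; exact Subgroup.subset_closure (by simp)
  have hy : y ∈ D := by rw [hxyz]; exact Subgroup.subset_closure (by simp)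
  have hz : z ∈ D := by rw [hxyz]; exact Subgroup.subset_closure (by simp)
  have hcomm : ∀ w ∈ D, w * x = x * w := by
    intro w hw
    exact congrArg Subtype.val (mul_comm' (⟨w, hw⟩ : D) (⟨x, hx⟩ : D))
  obtain ⟨f, U, hUn, hf, hfd, hUx, hU, hp, hUc, hUD, hfD⟩ := exists_major_defl hM hB hBD hab hx
  have hDH : D ≤ Subgroup.centralizer ({x} : Set G) := fun w hw =>
    Subgroup.mem_centralizer_singleton_iff.2 (hcomm w hw)
  have h1 : D.subgroupOf (Subgroup.centralizer ({x} : Set G)) = Subgroup.closure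
      {⟨x, Subgroup.mem_centralizer_singleton_iff.2 rfl⟩, ⟨y, hDH hy⟩, ⟨z, hDH hz⟩} :=
    subgroupOf_closure hxyz hDH (by rw [Set.image_insert_eq, Set.image_pair])
  have h2 : (D.subgroupOf (Subgroup.centralizer ({x} : Set G))).map (QuotientGroup.mk' U) =
      Subgroup.closure {QuotientGroup.mk' U ⟨y, hDH hy⟩, QuotientGroup.mk' U ⟨z, hDH hz⟩} := by
    rw [h1, map_closure_triple hUx]
  have hcardD := card_map_mk hUD
  have hDcard : Nat.card (D.subgroupOf (Subgroup.centralizer ({x} : Set G))) = Nat.card D :=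
    Nat.card_congr (Subgroup.subgroupOfEquivOfLe hDH).toEquiv
  rw [hDcard] at hcardD
  have hab' : IsMulCommutative ((D.subgroupOf (Subgroup.centralizer ({x} : Set G))).map
      (QuotientGroup.mk' U)) := by
    have h3 : IsMulCommutative (D.subgroupOf (Subgroup.centralizer ({x} : Set G))) := by
      infer_instance
    infer_instance
  -- the quotient is not generated by `y`
  have hne' : (D.subgroupOf (Subgroup.centralizer ({x} : Set G))).map (QuotientGroup.mk' U) ≠
      Subgroup.zpowers (QuotientGroup.mk' U ⟨y, hDH hy⟩) := by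
    intro h
    apply hne
    have h3 : QuotientGroup.mk' U ⟨z, hDH hz⟩ ∈
        Subgroup.zpowers (QuotientGroup.mk' U ⟨y, hDH hy⟩) := by
      rw [← h, h2]
      exact Subgroup.subset_closure (by simp)
    obtain ⟨n, hn⟩ := Subgroup.mem_zpowers_iff.1 h3
    rw [← map_zpow, QuotientGroup.mk'_apply, QuotientGroup.mk'_apply, QuotientGroup.eq, hUx] at hn
    obtain ⟨m, hm⟩ := Subgroup.mem_zpowers_iff.1 hn
    have h4 : z = y ^ n * x ^ m := by
      have h5 := congrArg (Subtype.val) hm
      push_cast at h5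
      rw [h5]
      group
    rw [h4]
    exact Subgroup.mul_mem _ (Subgroup.zpow_mem _ (Subgroup.subset_closure (by simp)) _)
      (Subgroup.zpow_mem _ (Subgroup.subset_closure (by simp)) _)
  have hup : ∃ k : ℕ, orderOf x = p ^ k := by
    obtain ⟨k, hk⟩ := IsPGroup.iff_orderOf.1 hDp ⟨x, hx⟩
    exact ⟨k, by rw [← hk, Subgroup.orderOf_mk]⟩
  have := Fintype.ofFinite (Subgroup.centralizer ({x} : Set G))
  have hc := isPBlock_defl hM hU hp hf.1
  have h3 := card_le_of_closure_pair hpat hM hc hfD hab' h2 hne'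
  have h4 := (S4733.result p M hM _ hc).1
  rw [blockRank_defl hM hU hp hf.1] at h4
  have h5 := card_le_pow_mul_blockRank hM hup rfl hf hfd
  rw [← S0908.result p M hM B hB D hBD] at h5
  obtain ⟨E, hE⟩ : ∃ E, E = Nat.card ((D.subgroupOf (Subgroup.centralizer ({x} : Set G))).map
    (QuotientGroup.mk' U)) := ⟨_, rfl⟩
  rw [← hE] at h3 hcardD
  rw [hUc] at hcardD
  obtain ⟨N, hN⟩ : ∃ N, N = Nat.card D := ⟨_, rfl⟩
  rw [← hN] at h5 hcardD hcard ⊢
  have hN0 : 0 < N := by rw [hN]; exact Nat.card_pos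
  have h6 : Nat.card B ≤ N * E := h5.trans (Nat.mul_le_mul_left _ (h4.trans h3))
  have h7 : E ^ 3 ≤ N ^ 2 := by
    have h8 : E ^ 3 * N ≤ N ^ 2 * N := by
      calc E ^ 3 * N ≤ E ^ 3 * orderOf x ^ 3 := Nat.mul_le_mul_left _ hcard
        _ = (E * orderOf x) ^ 3 := by ring
        _ = N ^ 2 * N := by rw [hcardD]; ring
    exact Nat.le_of_mul_le_mul_right h8 hN0
  calc Nat.card B ^ 3 ≤ (N * E) ^ 3 := Nat.pow_le_pow_left h6 3
    _ = N ^ 3 * E ^ 3 := by ring
    _ ≤ N ^ 3 * N ^ 2 := Nat.mul_le_mul_left _ h7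
    _ = N ^ 5 := by ring

end Cfsg.Agent.H658
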